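import Cfsg.Agent.JC.ResE8

/-! Class sums over `C2 × A5` and `C2 × A4`. -/

set_option autoImplicit false

namespace Cfsg.Agent.JC

theorem a5_three : ∀ σ : A5, σ ≠ 1 → σ * σ * σ = 1 → ∃ g : A5, g * σ * g⁻¹ = c3 := by
  decide +kernel

theorem a5_five : ∀ σ : A5, σ * σ ≠ 1 → σ * σ * σ ≠ 1 → ∃ g : A5, g * σ * g⁻¹ = c5 ∨
    g * σ * g⁻¹ = c5 * c5 := by
  decide +kernel

theorem a5_count2 : Fintype.card {σ : A5 // σ ≠ 1 ∧ σ * σ = 1} = 15 := by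
  decide +kernel

theorem a5_count3 : Fintype.card {σ : A5 // σ * σ ≠ 1 ∧ σ * σ * σ = 1} = 20 := by
  decide +kernel

theorem a5_count5 : Fintype.card {σ : A5 // σ * σ ≠ 1 ∧ σ * σ * σ ≠ 1} = 24 := by
  decide +kernel

/-- The stabiliser of a point. -/
def A4s : Subgroup A5 where
  carrier := {σ | σ.1 4 = 4}
  mul_mem' := by
    intro a b ha hb
    change (a.1 * b.1) 4 = 4
    rw [Equiv.Perm.mul_apply, hb, ha]
  one_mem' := rfl
  inv_mem' := by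
    intro a ha
    change (a.1⁻¹) 4 = 4
    rw [Equiv.Perm.inv_eq_iff_eq]
    exact ha.symm

instance decA4s : DecidablePred (· ∈ A4s) := fun σ => inferInstanceAs (Decidable (σ.1 4 = 4))

theorem a4_count2 : Fintype.card {σ : A4s // σ ≠ 1 ∧ σ * σ = 1} = 3 := by
  decide +kernel

theorem a4_count3 : Fintype.card {σ : A4s // σ * σ ≠ 1 ∧ σ * σ * σ = 1} = 8 := by
  decide +kernel

theorem a4_count5 : Fintype.card {σ : A4s // σ * σ ≠ 1 ∧ σ * σ * σ ≠ 1} = 0 := by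
  decide +kernel

/-- Sum of a function whose values depend only on the kind of the element. -/
theorem sum_kind {A : Type*} [Group A] [Fintype A] [DecidableEq A] (F : A → ℂ) {α β γ δ : ℂ}
    (h1 : F 1 = α) (h2 : ∀ σ, σ ≠ 1 → σ * σ = 1 → F σ = β)
    (h3 : ∀ σ, σ * σ ≠ 1 → σ * σ * σ = 1 → F σ = γ)
    (h4 : ∀ σ, σ * σ ≠ 1 → σ * σ * σ ≠ 1 → F σ = δ) :
    ∑ σ, F σ = α + Fintype.card {σ : A // σ ≠ 1 ∧ σ * σ = 1} * β +
      Fintype.card {σ : A // σ * σ ≠ 1 ∧ σ * σ * σ = 1} * γ +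
      Fintype.card {σ : A // σ * σ ≠ 1 ∧ σ * σ * σ ≠ 1} * δ := by
  have hF : ∀ σ, F σ = (if σ = 1 then α else 0) + (if σ ≠ 1 ∧ σ * σ = 1 then β else 0) +
      (if σ * σ ≠ 1 ∧ σ * σ * σ = 1 then γ else 0) +
      (if σ * σ ≠ 1 ∧ σ * σ * σ ≠ 1 then δ else 0) := by
    intro σ
    by_cases e1 : σ = 1
    · subst e1; simp [h1]
    · by_cases e2 : σ * σ = 1
      · simp [e1, e2, h2 σ e1 e2]
      · by_cases e3 : σ * σ * σ = 1
        · simp [e1, e2, e3, h3 σ e2 e3]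
        · simp [e1, e2, e3, h4 σ e2 e3]
  rw [Finset.sum_congr rfl fun σ _ => hF σ, Finset.sum_add_distrib, Finset.sum_add_distrib,
    Finset.sum_add_distrib, Finset.sum_ite_eq', if_pos (Finset.mem_univ _)]
  have hs : ∀ (P : A → Prop) [DecidablePred P] (c : ℂ), ∑ σ : A, (if P σ then c else 0) =
      Fintype.card {σ : A // P σ} * c := by
    intro P _ c
    rw [← Finset.sum_filter, Finset.sum_const, Fintype.card_subtype, nsmul_eq_mul]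
  rw [hs, hs, hs]

theorem sum_A5 (F : A5 → ℂ) {α β γ δ : ℂ}
    (h1 : F 1 = α) (h2 : ∀ σ, σ ≠ 1 → σ * σ = 1 → F σ = β)
    (h3 : ∀ σ, σ * σ ≠ 1 → σ * σ * σ = 1 → F σ = γ)
    (h4 : ∀ σ, σ * σ ≠ 1 → σ * σ * σ ≠ 1 → F σ = δ) :
    ∑ σ, F σ = α + 15 * β + 20 * γ + 24 * δ := by
  rw [sum_kind F h1 h2 h3 h4, a5_count2, a5_count3, a5_count5]
  norm_num

theorem sum_A4s (F : A4s → ℂ) {α β γ : ℂ}
    (h1 : F 1 = α) (h2 : ∀ σ, σ ≠ 1 → σ * σ = 1 → F σ = β)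
    (h3 : ∀ σ, σ * σ ≠ 1 → σ * σ * σ = 1 → F σ = γ) :
    ∑ σ, F σ = α + 3 * β + 8 * γ := by
  have h4 : ∀ σ : A4s, σ * σ ≠ 1 → σ * σ * σ ≠ 1 → F σ = 0 := by
    intro σ e1 e2
    have := Fintype.card_eq_zero_iff.mp a4_count5
    exact (this.false ⟨σ, e1, e2⟩).elim
  rw [sum_kind F h1 h2 h3 h4, a4_count2, a4_count3, a4_count5]
  norm_num

theorem m2_cases : ∀ a : M2, a = 1 ∨ a = e1 := by decide +kernel

theorem sum_M2 (F : M2 → ℂ) : ∑ x, F x = F 1 + F e1 := by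
  have h : (Finset.univ : Finset M2) = {1, e1} := by decide +kernel
  rw [h, Finset.sum_pair (by decide +kernel)]

end Cfsg.Agent.JC
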