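import Cfsg.Agent.JC.Cyc

/-! Integral combinations of the values of a character of `C2 × A5` on the `t`-section. -/

set_option autoImplicit false

namespace Cfsg.Agent.JC

open scoped ComplexConjugate
open Cfsg

theorem isConj_w13 : ∃ y : CA, y * w1 ^ 3 * y⁻¹ = w2 := by decide +kernel
theorem isConj_w19 : ∃ y : CA, y * w1 ^ 9 * y⁻¹ = w1 := by decide +kernel
theorem isConj_u35 : ∃ y : CA, y * u3 ^ 5 * y⁻¹ = u3 := by decide +kernel

section

variable {ψ : CA → ℂ} (hψ : IsCharacter CA ψ)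

include hψ in
theorem psi_conj {x x' : CA} (h : ∃ y : CA, y * x * y⁻¹ = x') : ψ x = ψ x' := by
  obtain ⟨y, rfl⟩ := h
  exact (CharBase.isClassFunction_of_isCharacter hψ x y).symm

include hψ in
theorem ca_int : ∃ P0 P1 P2 Q1 : ℤ,
    ψ zz + 2 * ψ w1 + 2 * ψ w2 = 5 * P0 ∧ ψ zz + ss * ψ w1 + st * ψ w2 = 5 * P1 ∧
    ψ zz + st * ψ w1 + ss * ψ w2 = 5 * P2 ∧ ψ zz - ψ u3 = 3 * Q1 := by
  have h3 := psi_conj hψ isConj_w13
  have h9 := psi_conj hψ isConj_w19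
  have h35 := psi_conj hψ isConj_u35
  obtain ⟨P0, hP0⟩ := odd_ten hψ w1_pow10 (one_pow 5 : (1 : ℂ) ^ 5 = 1)
  obtain ⟨P1, hP1⟩ := odd_ten hψ w1_pow10 zeta_pow
  have hz2 : (zeta ^ 2) ^ 5 = 1 := by
    rw [← pow_mul, mul_comm, pow_mul, zeta_pow, one_pow]
  obtain ⟨P2, hP2⟩ := odd_ten hψ w1_pow10 hz2
  have hprim := Complex.isPrimitiveRoot_exp 3 (by norm_num)
  set ω := Complex.exp (2 * Real.pi * Complex.I / (3 : ℕ)) with hω
  have hω3 : ω ^ 3 = 1 := hprim.pow_eq_one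
  have hωs : 1 + ω + ω ^ 2 = 0 := by
    have h := hprim.geom_sum_eq_zero (by norm_num)
    simpa [Finset.sum_range_succ] using h
  obtain ⟨Q1, hQ1⟩ := odd_six hψ u3_pow6 hω3
  refine ⟨P0, P1, P2, Q1, ?_, ?_, ?_, ?_⟩
  · rw [h3, h9, w1_pow, w1_pow7] at hP0
    simp only [one_pow, map_one] at hP0
    linear_combination hP0
  · rw [h3, h9, w1_pow, w1_pow7] at hP1
    have c1 := conj_zeta_pow 1 (by norm_num)
    rw [pow_one] at c1
    rw [c1, conj_zeta_pow 2 (by norm_num), conj_zeta_pow 3 (by norm_num),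
      conj_zeta_pow 4 (by norm_num)] at hP1
    unfold ss st
    norm_num at hP1
    linear_combination hP1
  · rw [h3, h9, w1_pow, w1_pow7] at hP2
    have e3 : (zeta ^ 2) ^ 3 = zeta ^ 1 := by
      rw [← pow_mul, show 2 * 3 = 5 + 1 by norm_num, pow_add, zeta_pow, one_mul]
    have e2 : (zeta ^ 2) ^ 2 = zeta ^ 4 := by
      rw [← pow_mul]
    have e4 : (zeta ^ 2) ^ 4 = zeta ^ 3 := by
      rw [← pow_mul, show 2 * 4 = 5 + 3 by norm_num, pow_add, zeta_pow, one_mul]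
    rw [e3, e2, e4, conj_zeta_pow 1 (by norm_num), conj_zeta_pow 2 (by norm_num),
      conj_zeta_pow 3 (by norm_num), conj_zeta_pow 4 (by norm_num)] at hP2
    unfold ss st
    norm_num at hP2
    linear_combination hP2
  · rw [h35, u3_pow] at hQ1
    have hn : ω * conj ω = 1 := by
      have h1 : ‖ω‖ = 1 := hprim.norm'_eq_one (by norm_num)
      rw [Complex.mul_conj, Complex.normSq_eq_norm_sq, h1]
      norm_num
    have hc1 : conj ω = ω ^ 2 := by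
      have h4 : ω ≠ 0 := left_ne_zero_of_mul_eq_one hn
      apply mul_left_cancel₀ h4
      rw [hn, ← pow_succ', hω3]
    have hc2 : conj (ω ^ 2) = ω := by
      rw [map_pow, hc1, ← pow_mul, show 2 * 2 = 3 + 1 by norm_num, pow_add, hω3, one_mul, pow_one]
    rw [hc1, hc2] at hQ1
    linear_combination hQ1 - ψ u3 * hωs

include hψ in
theorem real_val {x : CA} (h : ∃ y : CA, y * x * y⁻¹ = x⁻¹) : conj (ψ x) = ψ x := by
  rw [← CharBase.isCharacter_inv hψ, ← psi_conj hψ h]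

end

/-- The coefficient vectors. -/
noncomputable def cfA : Fin 4 → ℂ := ![1 / 15, 1 / 3, (2 + ss) / 5, (2 + st) / 5]
noncomputable def cfB : Fin 4 → ℂ := ![1 / 15, 1 / 3, (2 + st) / 5, (2 + ss) / 5]
noncomputable def cfC : Fin 4 → ℂ := ![2 / 15, -1 / 3, -st / 5, -ss / 5]
noncomputable def cfD : Fin 4 → ℂ := ![1 / 15, 1 / 3, -1 / 5, -1 / 5]

/-- The four elements. -/
def el : Fin 4 → CA := ![zz, u3, w1, w2]

/-- The value vector. -/
def xv (ψ : CA → ℂ) : Fin 4 → ℂ := fun i => ψ (el i)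

theorem xv_sum (cf : Fin 4 → ℂ) (ψ : CA → ℂ) : ∑ i, cf i * xv ψ i =
    cf 0 * ψ zz + cf 1 * ψ u3 + cf 2 * ψ w1 + cf 3 * ψ w2 := by
  rw [Fin.sum_univ_four]
  rfl

theorem ca_abcd {ψ : CA → ℂ} (hψ : IsCharacter CA ψ) : ∃ a b c d : ℤ,
    (a : ℂ) = ∑ i, cfA i * xv ψ i ∧ (b : ℂ) = ∑ i, cfB i * xv ψ i ∧
    (c : ℂ) = ∑ i, cfC i * xv ψ i ∧ (d : ℂ) = ∑ i, cfD i * xv ψ i := by
  obtain ⟨P0, P1, P2, Q1, h0, h1, h2, h3⟩ := ca_int hψ
  refine ⟨P0 + P1 - Q1, P0 + P2 - Q1, Q1 - P2, P1 + P2 - Q1, ?_, ?_, ?_, ?_⟩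
  · rw [xv_sum]
    simp only [cfA, Matrix.cons_val_zero, Matrix.cons_val_one, Matrix.cons_val]
    push_cast
    linear_combination (-1 / 5 : ℂ) * h0 - (1 / 5 : ℂ) * h1 + (1 / 3 : ℂ) * h3
  · rw [xv_sum]
    simp only [cfB, Matrix.cons_val_zero, Matrix.cons_val_one, Matrix.cons_val]
    push_cast
    linear_combination (-1 / 5 : ℂ) * h0 - (1 / 5 : ℂ) * h2 + (1 / 3 : ℂ) * h3
  · rw [xv_sum]
    simp only [cfC, Matrix.cons_val_zero, Matrix.cons_val_one, Matrix.cons_val]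
    push_cast
    linear_combination (1 / 5 : ℂ) * h2 - (1 / 3 : ℂ) * h3
  · rw [xv_sum]
    simp only [cfD, Matrix.cons_val_zero, Matrix.cons_val_one, Matrix.cons_val]
    push_cast
    linear_combination (-1 / 5 : ℂ) * h1 - (1 / 5 : ℂ) * h2 + (1 / 3 : ℂ) * h3 +
      (1 / 5 : ℂ) * (ψ w1 + ψ w2) * ss_add

/-- `ψ(t)` in terms of the integers. -/
theorem ca_tau {ψ : CA → ℂ} {a b c d : ℤ}
    (ha : (a : ℂ) = ∑ i, cfA i * xv ψ i) (hb : (b : ℂ) = ∑ i, cfB i * xv ψ i)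
    (hc : (c : ℂ) = ∑ i, cfC i * xv ψ i) (hd : (d : ℂ) = ∑ i, cfD i * xv ψ i) :
    ψ zz = 3 * b - 2 * a + 5 * c + 4 * d := by
  rw [ha, hb, hc, hd, xv_sum, xv_sum, xv_sum, xv_sum]
  simp only [cfA, cfB, cfC, cfD, Matrix.cons_val_zero, Matrix.cons_val_one, Matrix.cons_val]
  linear_combination (2 / 5 : ℂ) * (ψ w1 + ψ w2) * ss_add

end Cfsg.Agent.JC
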