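import Cfsg.Agent.JC.Local

/-! All involutions are conjugate; class constants. -/

set_option autoImplicit false

namespace Cfsg.Agent.JC

open Subgroup Cfsg.Agent.H60
open scoped commutatorElement

variable {G : Type*} [Group G] [Finite G]

theorem commutator_top_of_simple [IsSimpleGroup G] (hG : ∃ a b : G, a * b ≠ b * a) :
    commutator G = ⊤ := by
  rcases (inferInstance : (commutator G).Normal).eq_bot_or_eq_top with h | h
  · exfalso
    obtain ⟨a, b, hab⟩ := hG
    apply hab
    have h1 : ⁅a, b⁆ ∈ commutator G := Subgroup.commutator_mem_commutator (mem_top a) (mem_top b)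
    rw [h, mem_bot, commutatorElement_eq_one_iff_mul_comm] at h1
    exact h1
  · exact h

omit [Finite G] in
theorem noncomm (E : Emb G) : ∃ a b : G, a * b ≠ b * a := by
  refine ⟨E.iota (1, c3), E.iota (1, c5), ?_⟩
  intro h
  rw [← map_mul, ← map_mul] at h
  have h2 := E.inj h
  have : ((1, c3) : CA) * (1, c5) ≠ (1, c5) * (1, c3) := by decide +kernel
  exact this h2

omit [Finite G] in
theorem conj_orbit (E : Emb G) {y : E8} (h1 : y ≠ 1) (h2 : y ≠ zE) :
    IsConj (E.iota (kap (y.1, e1, 1))) (E.iota (kap y)) := by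
  obtain ⟨j, hj⟩ := kap_orbit y h1 h2
  rw [isConj_iff]
  refine ⟨(E.iota m3) ^ (j : ℕ), ?_⟩
  rw [mul_inv_eq_iff_eq_mul, ← map_pow, ← map_mul, ← map_mul]
  congr 1
  exact hj.symm

open scoped IsMulCommutative in
/-- `t` is not the only element of its class in `S`. -/
theorem not_unique [IsSimpleGroup G] (E : Emb G) (h16 : ¬ 16 ∣ Nat.card G)
    (h : ∀ y : E8, IsConj (E.iota zz) (E.iota (kap y)) → y = zE) : False := by
  have hcomm : IsMulCommutative E.S := ⟨⟨fun a b => Subtype.ext (E.S_comm a.2 b.2)⟩⟩
  have key : ∀ (k : ℕ) (g₀ : G), g₀⁻¹ * E.iota zz ^ k * g₀ ∈ E.S →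
      g₀⁻¹ * E.iota zz ^ k * g₀ = E.iota zz ^ k := by
    intro k g₀ hg
    have hk : E.iota zz ^ k = 1 ∨ E.iota zz ^ k = E.iota zz := by
      rcases Nat.even_or_odd' k with ⟨m, rfl | rfl⟩
      · left
        rw [pow_mul, pow_two, E.zz_sq', one_pow]
      · right
        rw [pow_add, pow_mul, pow_two, E.zz_sq', one_pow, one_mul, pow_one]
    rcases hk with hk | hk
    · rw [hk]; group
    · rw [hk] at hg ⊢
      obtain ⟨y, hy⟩ := hg
      have hy2 : E.iota (kap y) = g₀⁻¹ * E.iota zz * g₀ := hy
      have h1 : IsConj (E.iota zz) (E.iota (kap y)) := by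
        rw [hy2, isConj_iff]
        exact ⟨g₀⁻¹, by rw [inv_inv]⟩
      rw [← hy2, h y h1, kap_zE]
  have h1 := MonoidHom.transfer_eq_pow (MonoidHom.id E.S) (E.iota zz) key
  have hmem : E.iota zz ∈ commutator G := by
    rw [commutator_top_of_simple (noncomm E)]
    exact mem_top _
  have h2 : MonoidHom.transfer (MonoidHom.id E.S) (E.iota zz) = 1 :=
    Abelianization.commutator_subset_ker _ hmem
  rw [h2] at h1
  have h3 : E.iota zz ^ E.S.index = 1 := (congrArg Subtype.val h1).symm
  have h4 : ¬ 2 ∣ E.S.index := by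
    intro h
    have h4 := Subgroup.card_mul_index E.S
    rw [E.card_S] at h4
    obtain ⟨k, hk⟩ := h
    apply h16
    rw [← h4, hk]
    exact ⟨k, by ring⟩
  rcases Nat.even_or_odd' E.S.index with ⟨m, hm | hm⟩
  · exact h4 ⟨m, hm⟩
  · rw [hm, pow_add, pow_mul, pow_two, E.zz_sq', one_pow, one_mul, pow_one] at h3
    exact E.zz_ne' h3

theorem fst_cases : ∀ a : M2, a = 1 ∨ a = e1 := by decide +kernel

theorem zE_fst : zE.1 = e1 := rfl

/-- All the involutions of `S` are conjugate to `t`. -/
theorem conj_S [IsSimpleGroup G] (E : Emb G) (h16 : ¬ 16 ∣ Nat.card G) (y : E8) (hy : y ≠ 1) :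
    IsConj (E.iota zz) (E.iota (kap y)) := by
  classical
  have hself : IsConj (E.iota zz) (E.iota (kap zE)) := by
    rw [kap_zE]
  have hone : ¬ IsConj (E.iota zz) (E.iota (kap 1)) := by
    rw [map_one, map_one]
    intro h
    obtain ⟨g, hg⟩ := isConj_iff.mp h
    apply E.zz_ne'
    rw [mul_inv_eq_one] at hg
    exact mul_left_cancel (hg.trans (mul_one g).symm)
  have hodd := odd_class E h16
  by_cases hA : IsConj (E.iota zz) (E.iota (kap (1, e1, 1)))
  · by_cases hB : IsConj (E.iota zz) (E.iota (kap (e1, e1, 1)))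
    · by_cases hz : y = zE
      · rw [hz]; exact hself
      · have h1 := conj_orbit E hy hz
        rcases fst_cases y.1 with h2 | h2
        · rw [h2] at h1; exact hA.trans h1
        · rw [h2] at h1; exact hB.trans h1
    · exfalso
      have hiff : ∀ y : E8, IsConj (E.iota zz) (E.iota (kap y)) ↔
          (y = zE ∨ (y ≠ 1 ∧ y ≠ zE ∧ y.1 = 1)) := by
        intro y
        by_cases hy1 : y = 1
        · rw [hy1]
          constructor
          · intro h; exact absurd h hone
          · rintro (h | ⟨h, -⟩)
            · exact absurd h (by decide)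
            · exact absurd rfl h
        by_cases hz : y = zE
        · rw [hz]
          exact ⟨fun _ => Or.inl rfl, fun _ => hself⟩
        have h1 := conj_orbit E hy1 hz
        rcases fst_cases y.1 with h2 | h2
        · rw [h2] at h1
          exact ⟨fun _ => Or.inr ⟨hy1, hz, h2⟩, fun _ => hA.trans h1⟩
        · rw [h2] at h1
          constructor
          · intro h
            exact absurd (h.trans h1.symm) hB
          · rintro (h | ⟨-, -, h⟩)
            · exact absurd h hz
            · rw [h2] at h
              exact absurd h (by decide)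
      rw [Nat.card_congr (Equiv.subtypeEquivRight hiff), Nat.card_eq_fintype_card] at hodd
      have h4 := card_caseA
      have h5 : Odd 4 := by
        rw [← h4]
        convert hodd
      exact absurd h5 (by decide)
  · by_cases hB : IsConj (E.iota zz) (E.iota (kap (e1, e1, 1)))
    · exfalso
      have hiff : ∀ y : E8, IsConj (E.iota zz) (E.iota (kap y)) ↔
          (y = zE ∨ (y ≠ 1 ∧ y ≠ zE ∧ y.1 ≠ 1)) := by
        intro y
        by_cases hy1 : y = 1
        · rw [hy1]
          constructor
          · intro h; exact absurd h hone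
          · rintro (h | ⟨h, -⟩)
            · exact absurd h (by decide)
            · exact absurd rfl h
        by_cases hz : y = zE
        · rw [hz]
          exact ⟨fun _ => Or.inl rfl, fun _ => hself⟩
        have h1 := conj_orbit E hy1 hz
        rcases fst_cases y.1 with h2 | h2
        · rw [h2] at h1
          constructor
          · intro h
            exact absurd (h.trans h1.symm) hA
          · rintro (h | ⟨-, -, h⟩)
            · exact absurd h hz
            · exact absurd h2 h
        · rw [h2] at h1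
          exact ⟨fun _ => Or.inr ⟨hy1, hz, by rw [h2]; decide⟩, fun _ => hB.trans h1⟩
      rw [Nat.card_congr (Equiv.subtypeEquivRight hiff), Nat.card_eq_fintype_card] at hodd
      have h4 := card_caseB
      have h5 : Odd 4 := by
        rw [← h4]
        convert hodd
      exact absurd h5 (by decide)
    · exfalso
      apply not_unique E h16
      intro y hy
      by_contra hz
      have hy1 : y ≠ 1 := by
        rintro rfl
        exact hone hy
      have h1 := conj_orbit E hy1 hz
      rcases fst_cases y.1 with h2 | h2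
      · rw [h2] at h1; exact hA (hy.trans h1.symm)
      · rw [h2] at h1; exact hB (hy.trans h1.symm)

/-- All the involutions of `G` are conjugate to `t`. -/
theorem conj_inv [IsSimpleGroup G] (E : Emb G) (h16 : ¬ 16 ∣ Nat.card G) {x : G}
    (hx : x * x = 1) (hx1 : x ≠ 1) : IsConj (E.iota zz) x := by
  have : Fact (Nat.Prime 2) := ⟨Nat.prime_two⟩
  have ho : orderOf x = 2 := orderOf_eq_prime (by rw [pow_two]; exact hx) hx1
  have h1 : IsPGroup 2 (zpowers x) := by
    apply IsPGroup.of_card (n := 1)
    rw [Nat.card_zpowers, ho, pow_one]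
  obtain ⟨Q, hQ⟩ := h1.exists_le_sylow
  obtain ⟨g, hg⟩ := MulAction.exists_smul_eq G Q (sylS E h16)
  have h2 : g * x * g⁻¹ ∈ E.S := by
    rw [← sylS_coe E h16, ← hg, Sylow.coe_subgroup_smul,
      Subgroup.mem_pointwise_smul_iff_inv_smul_mem, ← map_inv, MulAut.smul_def, MulAut.conj_apply]
    have : g⁻¹ * (g * x * g⁻¹) * g⁻¹⁻¹ = x := by group
    rw [this]
    exact hQ (mem_zpowers x)
  obtain ⟨y, hy⟩ := h2
  have hy2 : E.iota (kap y) = g * x * g⁻¹ := hy
  have hy1 : y ≠ 1 := by
    rintro rfl
    rw [map_one, map_one] at hy2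
    apply hx1
    have : g * x = g * 1 := by
      rw [mul_one]
      exact (mul_inv_eq_one.mp hy2.symm)
    exact mul_left_cancel this
  have h3 := conj_S E h16 y hy1
  rw [hy2] at h3
  refine h3.trans ?_
  rw [isConj_iff]
  exact ⟨g⁻¹, by group⟩

end Cfsg.Agent.JC
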