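import Cfsg.Agent.JC.CAInt
import Cfsg.Agent.JC.Fusion
import Cfsg.Agent.CharBase.Column
import Cfsg.Agent.H79.Count

/-! Column relations for the characters of `G` on the `t`-section. -/

set_option autoImplicit false

namespace Cfsg.Agent.JC

open scoped ComplexConjugate
open Cfsg Subgroup

section

variable {G : Type*} [Group G] [Finite G] (E : Emb G)

/-- The restriction of a character of `G` to `C2 × A5`. -/
def rs (χ : IrrCharacter G) : CA → ℂ := fun y => (χ : G → ℂ) (E.iota y)

omit [Finite G] in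
theorem rs_isCharacter (χ : IrrCharacter G) : IsCharacter CA (rs E χ) :=
  CharBase.isCharacter_comp (CharBase.isCharacter_of_isIrr χ.2) E.iota

theorem real_el : ∀ i : Fin 4, ∃ y : CA, y * el i * y⁻¹ = (el i)⁻¹ := by
  intro i
  fin_cases i
  · refine ⟨1, ?_⟩
    change 1 * zz * 1⁻¹ = zz⁻¹
    have : zz⁻¹ = zz := inv_eq_of_mul_eq_one_left zz_sq
    rw [this]; group
  · exact real_u3
  · exact real_w1
  · exact real_w2

omit [Finite G] in
theorem conj_xv (χ : IrrCharacter G) (i : Fin 4) :
    conj (xv (rs E χ) i) = xv (rs E χ) i := real_val (rs_isCharacter E χ) (real_el i)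

/-- Exponents with `el i ^ kk i = zz`. -/
def kk : Fin 4 → ℕ := ![1, 3, 5, 5]

theorem el_pow (i : Fin 4) : el i ^ kk i = zz := by
  fin_cases i
  · exact pow_one zz
  · exact u3_pow
  · exact w1_pow
  · exact w2_pow

/-- Centraliser orders. -/
def nn : Fin 4 → ℕ := ![120, 6, 10, 10]

theorem card_cent_el (i : Fin 4) :
    Nat.card (centralizer ({E.iota (el i)} : Set G)) = nn i := by
  rw [E.card_cent (el_pow i)]
  fin_cases i
  · exact cent_zz_all
  · exact cent_u3
  · exact cent_w1
  · exact cent_w2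

omit [Finite G] in
theorem pow_of_conj {y y' : CA} (h : IsConj (E.iota y) (E.iota y')) {k : ℕ} (hk : y ^ k = 1) :
    y' ^ k = 1 := by
  obtain ⟨g, hg⟩ := isConj_iff.mp h
  apply E.inj
  rw [map_pow, ← hg, conj_pow, ← map_pow, hk, map_one]
  simp

omit [Finite G] in
theorem not_conj_el {i j : Fin 4} (hij : i ≠ j) : ¬ IsConj (E.iota (el i)) (E.iota (el j)) := by
  have key : ∀ i j : Fin 4, i < j → ¬ IsConj (E.iota (el i)) (E.iota (el j)) := by
    intro i j hlt h
    fin_cases i <;> fin_cases j <;> try exact absurd hlt (by decide)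
    · have := pow_of_conj E h (k := 2) (by decide +kernel)
      exact absurd this (by decide +kernel)
    · have := pow_of_conj E h (k := 2) (by decide +kernel)
      exact absurd this (by decide +kernel)
    · have := pow_of_conj E h (k := 2) (by decide +kernel)
      exact absurd this (by decide +kernel)
    · have := pow_of_conj E h (k := 6) (by decide +kernel)
      exact absurd this (by decide +kernel)
    · have := pow_of_conj E h (k := 6) (by decide +kernel)
      exact absurd this (by decide +kernel)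
    · obtain ⟨w, hw⟩ := E.conj_iff w1_pow w2_pow h
      exact not_conj_w w hw
  rcases lt_or_gt_of_ne hij with h | h
  · exact key i j h
  · exact fun hc => key j i h hc.symm

theorem sum_xv [Fintype (IrrCharacter G)] (i j : Fin 4) :
    ∑ χ : IrrCharacter G, xv (rs E χ) i * xv (rs E χ) j = if i = j then (nn i : ℂ) else 0 := by
  have h1 : ∑ χ : IrrCharacter G, xv (rs E χ) i * xv (rs E χ) j =
      ∑ χ : IrrCharacter G, (χ : G → ℂ) (E.iota (el i)) * conj ((χ : G → ℂ) (E.iota (el j))) := by
    refine Finset.sum_congr rfl fun χ _ => ?_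
    rw [← conj_xv E χ j]
    rfl
  rw [h1]
  by_cases hij : i = j
  · subst hij
    rw [if_pos rfl, CharBase.column_orthogonality_of_isConj (IsConj.refl _), card_cent_el]
  · rw [if_neg hij, CharBase.column_orthogonality_of_not_isConj (not_conj_el E hij)]

theorem bilin [Fintype (IrrCharacter G)] (α β : Fin 4 → ℂ) :
    ∑ χ : IrrCharacter G, (∑ i, α i * xv (rs E χ) i) * (∑ j, β j * xv (rs E χ) j) =
      ∑ i, α i * β i * nn i := by
  have h1 : ∀ χ : IrrCharacter G, (∑ i, α i * xv (rs E χ) i) * (∑ j, β j * xv (rs E χ) j) =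
      ∑ i, ∑ j, α i * β j * (xv (rs E χ) i * xv (rs E χ) j) := by
    intro χ
    rw [Finset.sum_mul_sum]
    refine Finset.sum_congr rfl fun i _ => Finset.sum_congr rfl fun j _ => ?_
    ring
  rw [Finset.sum_congr rfl fun χ _ => h1 χ, Finset.sum_comm]
  refine Finset.sum_congr rfl fun i _ => ?_
  rw [Finset.sum_comm]
  have h2 : ∀ j, ∑ χ : IrrCharacter G, α i * β j * (xv (rs E χ) i * xv (rs E χ) j) =
      if i = j then α i * β j * nn i else 0 := by
    intro j
    rw [← Finset.mul_sum, sum_xv]
    split_ifs <;> simp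
  rw [Finset.sum_congr rfl fun j _ => h2 j]
  simp

theorem el_ne_one (i : Fin 4) : el i ≠ 1 := by
  fin_cases i <;> decide +kernel

theorem sum_deg [Fintype (IrrCharacter G)] (i : Fin 4) :
    ∑ χ : IrrCharacter G, (χ : G → ℂ) 1 * xv (rs E χ) i = 0 := by
  have h1 : ∑ χ : IrrCharacter G, (χ : G → ℂ) 1 * xv (rs E χ) i =
      ∑ χ : IrrCharacter G, (χ : G → ℂ) 1 * conj ((χ : G → ℂ) (E.iota (el i))) := by
    refine Finset.sum_congr rfl fun χ _ => ?_
    rw [← conj_xv E χ i]
    rfl
  rw [h1]
  apply CharBase.column_orthogonality_of_not_isConj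
  intro h
  rw [isConj_one_right] at h
  rw [← map_one E.iota] at h
  exact el_ne_one i (E.inj h)

theorem lin_deg [Fintype (IrrCharacter G)] (α : Fin 4 → ℂ) :
    ∑ χ : IrrCharacter G, (χ : G → ℂ) 1 * (∑ i, α i * xv (rs E χ) i) = 0 := by
  have h1 : ∀ χ : IrrCharacter G, (χ : G → ℂ) 1 * (∑ i, α i * xv (rs E χ) i) =
      ∑ i, α i * ((χ : G → ℂ) 1 * xv (rs E χ) i) := by
    intro χ
    rw [Finset.mul_sum]
    exact Finset.sum_congr rfl fun i _ => by ring
  rw [Finset.sum_congr rfl fun χ _ => h1 χ, Finset.sum_comm]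
  refine Finset.sum_eq_zero fun i _ => ?_
  rw [← Finset.mul_sum, sum_deg, mul_zero]

end

end Cfsg.Agent.JC
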