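import Cfsg.Agent.JC.Dat

/-! The combinatorial argument. -/

set_option autoImplicit false

namespace Cfsg.Agent.JC

variable {I : Type*} [Fintype I] (D : Dat I)

/-- The configuration of the supports of `a` and `b`. -/
structure Conf (p q r : I) : Prop where
  hop : D.o ≠ p
  hoq : D.o ≠ q
  hor : D.o ≠ r
  hpq : p ≠ q
  hpr : p ≠ r
  hqr : q ≠ r
  ha : ∀ i, i ≠ D.o → i ≠ p → i ≠ q → i ≠ r → D.a i = 0
  hap : D.a p = 1 ∨ D.a p = -1
  haq : D.a q = 1 ∨ D.a q = -1
  har : D.a r = 1 ∨ D.a r = -1
  hbp : D.b p = D.a p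
  hbq : D.b q = 0
  hbr : D.b r = 0
  hb : ∀ i, D.a i = 0 → D.b i ≠ 0 → i = D.rho q ∨ i = D.rho r
  hc1 : ∀ i, D.c i = 0 ∨ D.c i = 1 ∨ D.c i = -1

theorem Conf.swap {D : Dat I} {p q r : I} (h : Conf D p q r) : Conf D p r q where
  hop := h.hop
  hoq := h.hor
  hor := h.hoq
  hpq := h.hpr
  hpr := h.hpq
  hqr := h.hqr.symm
  ha := fun i h1 h2 h3 h4 => h.ha i h1 h2 h4 h3
  hap := h.hap
  haq := h.har
  har := h.haq
  hbp := h.hbp
  hbq := h.hbr
  hbr := h.hbq
  hb := fun i h1 h2 => (h.hb i h1 h2).symm
  hc1 := h.hc1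

theorem exists_conf : ∃ p q r : I, Conf D p q r := by
  classical
  -- the function `a - b`
  have he : ∑ i, (D.a i - D.b i) ^ 2 = 4 := by
    have : ∀ i, (D.a i - D.b i) ^ 2 = D.a i ^ 2 + D.b i ^ 2 - 2 * (D.a i * D.b i) :=
      fun i => by ring
    rw [Finset.sum_congr rfl fun i _ => this i, Finset.sum_sub_distrib, Finset.sum_add_distrib,
      ← Finset.mul_sum, D.aa, D.bb, D.ab]
    norm_num
  have herho : ∀ i, D.a (D.rho i) - D.b (D.rho i) = -(D.a i - D.b i) := by
    intro i
    rw [D.arho, D.brho]; ring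
  have he1 : (∀ i, D.a i - D.b i = 0 ∨ D.a i - D.b i = 1 ∨ D.a i - D.b i = -1) ∧
      (Finset.univ.filter (fun i => D.a i - D.b i ≠ 0)).card = 4 := by
    rcases supp_sum4 _ he with ⟨i, hi, h0⟩ | h
    · exfalso
      have h1 : D.rho i = i := by
        by_contra hne
        have := h0 _ hne
        rw [herho] at this
        omega
      have := herho i
      rw [h1] at this
      omega
    · exact h
  obtain ⟨he2, hecard⟩ := he1
  have ha1 : (∀ i, D.a i = 0 ∨ D.a i = 1 ∨ D.a i = -1) ∧
      (Finset.univ.filter (fun i => D.a i ≠ 0)).card = 4 := by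
    rcases supp_sum4 _ D.aa with ⟨i, hi, h0⟩ | h
    · exfalso
      have ho := D.ao
      by_cases h1 : D.o = i
      · rw [h1] at ho; omega
      · rw [h0 _ h1] at ho; omega
    · exact h
  obtain ⟨ha2, hacard⟩ := ha1
  have hb2 : ∀ i, D.b i = 0 ∨ D.b i = 1 ∨ D.b i = -1 := by
    intro i
    rw [← D.arho]; exact ha2 _
  -- the four parts
  set P := Finset.univ.filter (fun i => D.a i ≠ 0 ∧ D.b i = 0) with hP
  set Q := Finset.univ.filter (fun i => D.a i = 0 ∧ D.b i ≠ 0) with hQ
  set R := Finset.univ.filter (fun i => D.a i ≠ 0 ∧ D.b i ≠ 0) with hR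
  have hPQ1 : P.card ≤ Q.card := by
    rw [← Finset.card_image_of_injective P D.rinj]
    apply Finset.card_le_card
    intro x hx
    obtain ⟨i, hi, rfl⟩ := Finset.mem_image.mp hx
    rw [hP, Finset.mem_filter] at hi
    rw [hQ, Finset.mem_filter, D.arho, D.brho]
    exact ⟨Finset.mem_univ _, hi.2.2, hi.2.1⟩
  have hPQ2 : Q.card ≤ P.card := by
    rw [← Finset.card_image_of_injective Q D.rinj]
    apply Finset.card_le_card
    intro x hx
    obtain ⟨i, hi, rfl⟩ := Finset.mem_image.mp hx
    rw [hQ, Finset.mem_filter] at hi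
    rw [hP, Finset.mem_filter, D.arho, D.brho]
    exact ⟨Finset.mem_univ _, hi.2.2, hi.2.1⟩
  have hPQ3 : P.card + Q.card = 4 := by
    rw [← hecard, ← Finset.card_union_of_disjoint]
    · congr 1
      ext i
      rw [hP, hQ, Finset.mem_union, Finset.mem_filter, Finset.mem_filter, Finset.mem_filter]
      have h1 := ha2 i
      have h2 := hb2 i
      have h3 := he2 i
      constructor
      · rintro (h | h)
        · refine ⟨Finset.mem_univ _, ?_⟩; omega
        · refine ⟨Finset.mem_univ _, ?_⟩; omega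
      · rintro ⟨-, h⟩
        by_cases h4 : D.a i = 0
        · right; refine ⟨Finset.mem_univ _, h4, ?_⟩; omega
        · left; refine ⟨Finset.mem_univ _, h4, ?_⟩; omega
    · rw [Finset.disjoint_left]
      intro i h1 h2
      rw [hP, Finset.mem_filter] at h1
      rw [hQ, Finset.mem_filter] at h2
      exact h1.2.1 h2.2.1
  have hPR : P.card + R.card = 4 := by
    rw [← hacard, ← Finset.card_union_of_disjoint]
    · congr 1
      ext i
      rw [hP, hR, Finset.mem_union, Finset.mem_filter, Finset.mem_filter, Finset.mem_filter]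
      constructor
      · rintro (h | h)
        · exact ⟨Finset.mem_univ _, h.2.1⟩
        · exact ⟨Finset.mem_univ _, h.2.1⟩
      · rintro ⟨-, h⟩
        by_cases h4 : D.b i = 0
        · left; exact ⟨Finset.mem_univ _, h, h4⟩
        · right; exact ⟨Finset.mem_univ _, h, h4⟩
    · rw [Finset.disjoint_left]
      intro i h1 h2
      rw [hP, Finset.mem_filter] at h1
      rw [hR, Finset.mem_filter] at h2
      exact h2.2.2 h1.2.2
  have hPc : P.card = 2 := by omega
  have hQc : Q.card = 2 := by omega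
  have hRc : R.card = 2 := by omega
  obtain ⟨q, r, hqr, hPe⟩ := Finset.card_eq_two.mp hPc
  have hoR : D.o ∈ R := by
    rw [hR, Finset.mem_filter, D.ao, D.bo]
    exact ⟨Finset.mem_univ _, one_ne_zero, one_ne_zero⟩
  have hRe : (R.erase D.o).card = 1 := by rw [Finset.card_erase_of_mem hoR, hRc]
  obtain ⟨p, hp⟩ := Finset.card_eq_one.mp hRe
  have hpR : p ∈ R.erase D.o := by rw [hp]; exact Finset.mem_singleton_self p
  have hpR2 := Finset.mem_of_mem_erase hpR
  rw [hR, Finset.mem_filter] at hpR2
  have hqP : q ∈ P := by rw [hPe]; exact Finset.mem_insert_self _ _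
  have hrP : r ∈ P := by rw [hPe]; exact Finset.mem_insert_of_mem (Finset.mem_singleton_self _)
  have hqP' := hqP
  have hrP' := hrP
  rw [hP, Finset.mem_filter] at hqP' hrP'
  refine ⟨p, q, r, ?_⟩
  refine
    { hop := (Finset.ne_of_mem_erase hpR).symm
      hoq := ?_
      hor := ?_
      hpq := ?_
      hpr := ?_
      hqr := hqr
      ha := ?_
      hap := ?_
      haq := ?_
      har := ?_
      hbp := ?_
      hbq := hqP'.2.2
      hbr := hrP'.2.2
      hb := ?_
      hc1 := ?_ }
  · rintro rfl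
    have := hqP'.2.2
    rw [D.bo] at this; exact one_ne_zero this
  · rintro rfl
    have := hrP'.2.2
    rw [D.bo] at this; exact one_ne_zero this
  · rintro rfl
    exact hpR2.2.2 hqP'.2.2
  · rintro rfl
    exact hpR2.2.2 hrP'.2.2
  · intro i h1 h2 h3 h4
    by_contra h5
    by_cases h6 : D.b i = 0
    · have : i ∈ P := by rw [hP, Finset.mem_filter]; exact ⟨Finset.mem_univ _, h5, h6⟩
      rw [hPe, Finset.mem_insert, Finset.mem_singleton] at this
      tauto
    · have : i ∈ R.erase D.o := by
        rw [Finset.mem_erase, hR, Finset.mem_filter]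
        exact ⟨h1, Finset.mem_univ _, h5, h6⟩
      rw [hp, Finset.mem_singleton] at this
      exact h2 this
  · have := ha2 p; have := hpR2.2.1; omega
  · have := ha2 q; have := hqP'.2.1; omega
  · have := ha2 r; have := hrP'.2.1; omega
  · have := ha2 p; have := hb2 p; have := he2 p; have := hpR2.2.1; have := hpR2.2.2; omega
  · intro i h1 h2
    have h3 : i ∈ Q := by rw [hQ, Finset.mem_filter]; exact ⟨Finset.mem_univ _, h1, h2⟩
    have h4 : ({D.rho q, D.rho r} : Finset I) = Q := by
      apply Finset.eq_of_subset_of_card_le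
      · intro x hx
        rw [Finset.mem_insert, Finset.mem_singleton] at hx
        rw [hQ, Finset.mem_filter]
        rcases hx with rfl | rfl
        · rw [D.arho, D.brho]; exact ⟨Finset.mem_univ _, hqP'.2.2, hqP'.2.1⟩
        · rw [D.arho, D.brho]; exact ⟨Finset.mem_univ _, hrP'.2.2, hrP'.2.1⟩
      · rw [Finset.card_pair (fun h => hqr (D.rinj h)), hQc]
    rw [← h4, Finset.mem_insert, Finset.mem_singleton] at h3
    exact h3
  · rcases supp_sum4 _ D.cc with ⟨i, hi, h0⟩ | h
    · exfalso
      have h1 : ∀ j, D.a j - D.b j = 0 := by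
        intro j
        by_contra hne
        have h2 := he2 j
        have h3 := D.crho j
        by_cases h4 : j = i
        · by_cases h5 : D.rho j = i
          · rw [h5, h4] at h3; rw [h4] at hne; omega
          · rw [h0 _ h5, h4] at h3; rw [h4] at h2; omega
        · rw [h0 _ h4] at h3
          by_cases h5 : D.rho j = i
          · rw [h5] at h3; omega
          · rw [h0 _ h5] at h3; omega
      have h2 : (Finset.univ.filter (fun i => D.a i - D.b i ≠ 0)) = ∅ := by
        rw [Finset.filter_eq_empty_iff]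
        intro j _ h3
        exact h3 (h1 j)
      rw [h2, Finset.card_empty] at hecard
      omega
    · exact h.1

end Cfsg.Agent.JC
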