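import Cfsg.Agent.JC.Comb

/-! The combinatorial argument, continued. -/

set_option autoImplicit false

namespace Cfsg.Agent.JC

variable {I : Type*} [Fintype I] {D : Dat I} {p q r : I}

theorem Conf.crq (h : Conf D p q r) : D.c (D.rho q) = D.c q - D.a q := by
  rw [D.crho, h.hbq]; ring

theorem Conf.crr (h : Conf D p q r) : D.c (D.rho r) = D.c r - D.a r := by
  rw [D.crho, h.hbr]; ring

theorem Conf.d_zero (h : Conf D p q r) : D.d p = 0 ∧ D.d q = 0 ∧ D.d r = 0 := by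
  classical
  obtain ⟨hd1, -⟩ := supp_sum2 _ D.dd
  have h1 := D.ad
  rw [sum_on4 h.hop h.hoq h.hor h.hpq h.hpr h.hqr _
    (fun i h1 h2 h3 h4 => by rw [h.ha i h1 h2 h3 h4, zero_mul]), D.d_o] at h1
  have hq1 : D.a (D.rho q) = 0 := by rw [D.arho, h.hbq]
  have hr1 : D.a (D.rho r) = 0 := by rw [D.arho, h.hbr]
  have hne : ∀ x y : I, D.a x ≠ 0 → D.a y = 0 → x ≠ y := by
    rintro x y h1 h2 rfl
    exact h1 h2
  have hap := h.hap
  have haq := h.haq
  have har := h.har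
  have hap0 : D.a p ≠ 0 := by omega
  have haq0 : D.a q ≠ 0 := by omega
  have har0 : D.a r ≠ 0 := by omega
  have h5 : D.d p ^ 2 + (D.d q ^ 2 + (D.d r ^ 2 + (D.d (D.rho q) ^ 2 + D.d (D.rho r) ^ 2))) ≤ 2 := by
    have h6 := Finset.sum_le_sum_of_subset_of_nonneg (f := fun i => D.d i ^ 2)
      (Finset.subset_univ ({p, q, r, D.rho q, D.rho r} : Finset I))
      (fun i _ _ => sq_nonneg (D.d i))
    rw [D.dd, Finset.sum_insert, Finset.sum_insert, Finset.sum_insert, Finset.sum_insert,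
      Finset.sum_singleton] at h6
    · exact h6
    · rw [Finset.mem_singleton]
      exact fun h7 => h.hqr (D.rinj h7)
    · simp only [Finset.mem_insert, Finset.mem_singleton, not_or]
      exact ⟨hne _ _ har0 hq1, hne _ _ har0 hr1⟩
    · simp only [Finset.mem_insert, Finset.mem_singleton, not_or]
      exact ⟨h.hqr, hne _ _ haq0 hq1, hne _ _ haq0 hr1⟩
    · simp only [Finset.mem_insert, Finset.mem_singleton, not_or]
      exact ⟨h.hpq, h.hpr, hne _ _ hap0 hq1, hne _ _ hap0 hr1⟩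
  rw [D.drho, D.drho] at h5
  have e1 := hd1 p
  have e2 := hd1 q
  have e3 := hd1 r
  rcases hap with u1 | u1 <;> rcases haq with u2 | u2 <;> rcases har with u3 | u3 <;>
    rw [u1, u2, u3] at h1 <;>
    rcases e1 with u4 | u4 | u4 <;> rcases e2 with u5 | u5 | u5 <;>
    rcases e3 with u6 | u6 | u6 <;> rw [u4, u5, u6] at h1 h5 <;>
    first
    | exact ⟨u4, u5, u6⟩
    | (exfalso; norm_num at h1; done)
    | (exfalso; norm_num at h5)

/-- The three cases for `c`. -/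
theorem Conf.c_cases (h : Conf D p q r) :
    (D.c p = 0 ∧ D.c q = D.a q ∧ D.c r = D.a r) ∨
    (D.c p = D.a p ∧ D.c q = D.a q ∧ D.c r = 0) ∨
    (D.c p = D.a p ∧ D.c q = 0 ∧ D.c r = D.a r) := by
  have h1 := D.ac
  rw [sum_on4 h.hop h.hoq h.hor h.hpq h.hpr h.hqr _
    (fun i h1 h2 h3 h4 => by rw [h.ha i h1 h2 h3 h4, zero_mul]), D.co] at h1
  have e1 := h.hc1 p
  have e2 := h.hc1 q
  have e3 := h.hc1 r
  have e4 := h.hc1 (D.rho q)
  have e5 := h.hc1 (D.rho r)
  rw [h.crq] at e4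
  rw [h.crr] at e5
  rcases h.hap with u1 | u1 <;> rcases h.haq with u2 | u2 <;> rcases h.har with u3 | u3 <;>
    rw [u1, u2, u3] at h1 ⊢ <;> rw [u2] at e4 <;> rw [u3] at e5 <;> omega

end Cfsg.Agent.JC
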