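import Cfsg.Agent.JC.Comb2

/-! The combinatorial argument: the first case. -/

set_option autoImplicit false

namespace Cfsg.Agent.JC

variable {I : Type*} [Fintype I] {D : Dat I} {p q r : I}

theorem supp_c_card (h : ∀ i, D.c i = 0 ∨ D.c i = 1 ∨ D.c i = -1) :
    (Finset.univ.filter (fun i => D.c i ≠ 0)).card = 4 := by
  rcases supp_sum4 _ D.cc with ⟨i, hi, -⟩ | h'
  · exfalso
    have := h i
    omega
  · exact h'.2

/-- Elements `v`, `w` outside the supports of `a`, `b` in the first case. -/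
structure Out (D : Dat I) (v : I) : Prop where
  ne : v ≠ D.o
  c1 : D.c v = 1 ∨ D.c v = -1
  a0 : D.a v = 0
  b0 : D.b v = 0

theorem Conf.out (h : Conf D p q r) {v : I} (hv : D.c v ≠ 0)
    (h1 : v ≠ q) (h2 : v ≠ r) (h3 : v ≠ p) (h4 : v ≠ D.rho q) (h5 : v ≠ D.rho r) : Out D v := by
  have hvo : v ≠ D.o := by rintro rfl; exact hv D.co
  refine ⟨hvo, ?_, h.ha v hvo h3 h1 h2, ?_⟩
  · have := h.hc1 v; omega
  · by_contra h6
    rcases h.hb v (h.ha v hvo h3 h1 h2) h6 with h7 | h7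
    · exact h4 h7
    · exact h5 h7

theorem case1_final (h : Conf D p q r) (hcp : D.c p = 0) (hcq : D.c q = D.a q)
    (hcr : D.c r = D.a r) : D.N = 175560 := by
  classical
  have hcard := supp_c_card h.hc1
  set S := Finset.univ.filter (fun i => D.c i ≠ 0) with hS
  have haq := h.haq
  have har := h.har
  have hap := h.hap
  have hqS : q ∈ S := by
    rw [hS, Finset.mem_filter]; refine ⟨Finset.mem_univ _, ?_⟩; omega
  have hrS : r ∈ S.erase q := by
    rw [Finset.mem_erase, hS, Finset.mem_filter]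
    refine ⟨h.hqr.symm, Finset.mem_univ _, ?_⟩; omega
  have hc2 : ((S.erase q).erase r).card = 2 := by
    rw [Finset.card_erase_of_mem hrS, Finset.card_erase_of_mem hqS, hcard]
  obtain ⟨v, w, hvw, hSvw⟩ := Finset.card_eq_two.mp hc2
  have hv : v ∈ (S.erase q).erase r := by rw [hSvw]; exact Finset.mem_insert_self _ _
  have hw : w ∈ (S.erase q).erase r := by
    rw [hSvw]; exact Finset.mem_insert_of_mem (Finset.mem_singleton_self _)
  rw [Finset.mem_erase, Finset.mem_erase, hS, Finset.mem_filter] at hv hw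
  have hz : ∀ i, i ≠ q → i ≠ r → i ≠ v → i ≠ w → D.c i = 0 := by
    intro i h1 h2 h3 h4
    by_contra h5
    have : i ∈ (S.erase q).erase r := by
      rw [Finset.mem_erase, Finset.mem_erase, hS, Finset.mem_filter]
      exact ⟨h2, h1, Finset.mem_univ _, h5⟩
    rw [hSvw, Finset.mem_insert, Finset.mem_singleton] at this
    tauto
  have hcrq : D.c (D.rho q) = 0 := by rw [h.crq, hcq, sub_self]
  have hcrr : D.c (D.rho r) = 0 := by rw [h.crr, hcr, sub_self]
  have hne : ∀ x y : I, D.c x ≠ 0 → D.c y = 0 → x ≠ y := by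
    rintro x y h1 h2 rfl
    exact h1 h2
  have ov : Out D v := h.out hv.2.2.2 hv.2.1 hv.1 (hne _ _ hv.2.2.2 hcp) (hne _ _ hv.2.2.2 hcrq)
    (hne _ _ hv.2.2.2 hcrr)
  have ow : Out D w := h.out hw.2.2.2 hw.2.1 hw.1 (hne _ _ hw.2.2.2 hcp) (hne _ _ hw.2.2.2 hcrq)
    (hne _ _ hw.2.2.2 hcrr)
  have hqv : q ≠ v := hv.2.1.symm
  have hqw : q ≠ w := hw.2.1.symm
  have hrv : r ≠ v := hv.1.symm
  have hrw : r ≠ w := hw.1.symm
  obtain ⟨dp, dq, dr⟩ := h.d_zero
  have fpos := D.fpos
  -- `d` vanishes on `v` and `w`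
  have hd : D.d v = 0 ∧ D.d w = 0 := by
    have h1 := D.cd
    rw [sum_on4 h.hqr hqv hqw hrv hrw hvw _
      (fun i h1 h2 h3 h4 => by rw [hz i h1 h2 h3 h4, zero_mul]), dq, dr] at h1
    have h2 : D.c v * D.d v + D.c w * D.d w = 0 := by linarith
    obtain ⟨hd1, hd2⟩ := supp_sum2 _ D.dd
    have e1 := hd1 v
    have e2 := hd1 w
    by_cases hv0 : D.d v = 0
    · refine ⟨hv0, ?_⟩
      rw [hv0, mul_zero, zero_add] at h2
      exact (mul_eq_zero.mp h2).resolve_left hw.2.2.2
    · exfalso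
      have hw0 : D.d w ≠ 0 := by
        intro h3
        rw [h3, mul_zero, add_zero] at h2
        exact (mul_ne_zero hv.2.2.2 hv0) h2
      have hdz : ∀ i, i ≠ v → i ≠ w → D.d i = 0 := by
        intro i h3 h4
        by_contra h5
        have h6 : ({i, v, w} : Finset I) ⊆ Finset.univ.filter (fun i => D.d i ≠ 0) := by
          intro x hx
          rw [Finset.mem_filter]
          refine ⟨Finset.mem_univ _, ?_⟩
          simp only [Finset.mem_insert, Finset.mem_singleton] at hx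
          rcases hx with rfl | rfl | rfl
          · exact h5
          · exact hv0
          · exact hw0
        have h7 := Finset.card_le_card h6
        rw [hd2, Finset.card_insert_of_notMem, Finset.card_pair hvw] at h7
        · omega
        · simp [h3, h4]
      have h3 := D.df
      rw [sum_on2 hvw _ (fun i h1 h2 => by rw [hdz i h1 h2, zero_mul])] at h3
      have h4 := D.nd
      rw [sum_on2 hvw _ (fun i h1 h2 => by rw [hdz i h1 h2, Int.cast_zero, zero_mul, zero_div]),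
        ov.a0, ov.b0, ow.a0, ow.b0] at h4
      have fv := fpos v
      have fw := fpos w
      have hdw : D.d w = - D.d v ∧ D.f w = D.f v := by
        rcases e1 with u1 | u1 | u1
        · exact absurd u1 hv0
        · rcases e2 with u2 | u2 | u2
          · exact absurd u2 hw0
          · rw [u1, u2] at h3; omega
          · rw [u1, u2] at h3 ⊢; omega
        · rcases e2 with u2 | u2 | u2
          · exact absurd u2 hw0
          · rw [u1, u2] at h3 ⊢; omega
          · rw [u1, u2] at h3; omega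
      have hcw : D.c w = D.c v := by
        rw [hdw.1] at h2
        have : (D.c v - D.c w) * D.d v = 0 := by linear_combination h2
        have := (mul_eq_zero.mp this).resolve_right hv0
        linarith
      rw [hdw.1, hdw.2, hcw] at h4
      have hfv : (D.f v : ℚ) ≠ 0 := by exact_mod_cast fv.ne'
      have h5 : (D.d v : ℚ) * ((tauF 0 0 (D.c v) (D.d v) : ℤ) : ℚ) ^ 2 +
          ((-D.d v : ℤ) : ℚ) * ((tauF 0 0 (D.c v) (-D.d v) : ℤ) : ℚ) ^ 2 = 0 := by
        rw [← add_div, div_eq_zero_iff] at h4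
        exact h4.resolve_right hfv
      have h6 : D.d v * (tauF 0 0 (D.c v) (D.d v)) ^ 2 +
          (-D.d v) * (tauF 0 0 (D.c v) (-D.d v)) ^ 2 = 0 := by exact_mod_cast h5
      unfold tauF at h6
      have h7 : 80 * D.c v * (D.d v * D.d v) = 0 := by linear_combination h6
      exact (mul_ne_zero (mul_ne_zero (by norm_num) hv.2.2.2) (mul_ne_zero hv0 hv0)) h7
  -- the sums
  have sa := D.af
  rw [sum_on4 h.hop h.hoq h.hor h.hpq h.hpr h.hqr _
    (fun i h1 h2 h3 h4 => by rw [h.ha i h1 h2 h3 h4, zero_mul]), D.ao, D.fo] at sa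
  have sc := D.cf
  rw [sum_on4 h.hqr hqv hqw hrv hrw hvw _
      (fun i h1 h2 h3 h4 => by rw [hz i h1 h2 h3 h4, zero_mul]), hcq, hcr] at sc
  have tp : tauF (D.a p) (D.b p) (D.c p) (D.d p) = D.a p := by
    unfold tauF; rw [h.hbp, hcp, dp]; ring
  have tq : tauF (D.a q) (D.b q) (D.c q) (D.d q) = 3 * D.a q := by
    unfold tauF; rw [h.hbq, hcq, dq]; ring
  have tr : tauF (D.a r) (D.b r) (D.c r) (D.d r) = 3 * D.a r := by
    unfold tauF; rw [h.hbr, hcr, dr]; ring
  have tv : tauF (D.a v) (D.b v) (D.c v) (D.d v) = 5 * D.c v := by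
    unfold tauF; rw [ov.a0, ov.b0, hd.1]; ring
  have tw : tauF (D.a w) (D.b w) (D.c w) (D.d w) = 5 * D.c w := by
    unfold tauF; rw [ow.a0, ow.b0, hd.2]; ring
  have t0 : tauF (D.a D.o) (D.b D.o) (D.c D.o) (D.d D.o) = 1 := by
    unfold tauF; rw [D.ao, D.bo, D.co, D.d_o]; norm_num
  have sq1 : ∀ {s : ℤ}, (s = 1 ∨ s = -1) → (s : ℚ) ^ 2 = 1 := by
    rintro s (rfl | rfl) <;> norm_num
  have na := D.na
  rw [sum_on4 h.hop h.hoq h.hor h.hpq h.hpr h.hqr _
    (fun i h1 h2 h3 h4 => by rw [h.ha i h1 h2 h3 h4, Int.cast_zero, zero_mul, zero_div]),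
    t0, tp, tq, tr, D.ao, D.fo, sgn_div hap, sgn_div haq, sgn_div har] at na
  have nc := D.nc
  rw [sum_on4 h.hqr hqv hqw hrv hrw hvw _
      (fun i h1 h2 h3 h4 => by rw [hz i h1 h2 h3 h4, Int.cast_zero, zero_mul, zero_div]),
    tq, tr, tv, tw, hcq, hcr, sgn_div haq, sgn_div har, sgn_div ov.c1, sgn_div ow.c1] at nc
  push_cast at na nc
  rw [mul_pow, mul_pow, sq1 hap, sq1 haq, sq1 har] at na
  rw [mul_pow, mul_pow, mul_pow, mul_pow, sq1 haq, sq1 har, sq1 ov.c1, sq1 ow.c1] at nc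
  have mp := D.fmod p h.hop.symm
  have mq := D.fmod q h.hoq.symm
  have mr := D.fmod r h.hor.symm
  have gp := D.fge p h.hop.symm
  have gq := D.fge q h.hoq.symm
  have gr := D.fge r h.hor.symm
  have lp := D.fge' p
  have lq := D.fge' q
  have lr := D.fge' r
  rw [tp] at mp gp lp
  rw [tq] at mq gq lq
  rw [tr] at mr gr lr
  have fp := D.fpos p
  have fq := D.fpos q
  have fr := D.fpos r
  have fv := D.fpos v
  have fw := D.fpos w
  have e1 : (-(D.a q * D.f q)) % 8 = 5 ∧
      (21 ≤ -(D.a q * D.f q) ∨ -(D.a q * D.f q) ≤ -11) := by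
    rcases haq with u | u <;> rw [u] at mq gq lq ⊢ <;> omega
  have e2 : (-(D.a r * D.f r)) % 8 = 5 ∧
      (21 ≤ -(D.a r * D.f r) ∨ -(D.a r * D.f r) ≤ -11) := by
    rcases har with u | u <;> rw [u] at mr gr lr ⊢ <;> omega
  have eX : -(D.a q * D.f q) + -(D.a r * D.f r) - 1 = D.a p * D.f p := by linarith
  have e3 : 9 ≤ D.a p * D.f p ∨ D.a p * D.f p ≤ -7 := by
    rcases hap with u | u <;> rw [u] at mp gp lp ⊢ <;> omega
  have hsq : ∀ {s : ℤ} (f : ℤ), (s = 1 ∨ s = -1) → (-(s * f)) * (-(s * f)) = f * f := by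
    rintro s f (rfl | rfl) <;> ring
  have hsq' : ∀ {s : ℤ} (f : ℤ), (s = 1 ∨ s = -1) → (s * f) * (s * f) = f * f := by
    rintro s f (rfl | rfl) <;> ring
  rcases case1 (N := D.N) (V := D.c v * D.f v) (W := D.c w * D.f w) e1.1 e2.1 e1.2 e2.2
    (by rw [eX]; exact e3) (mul_ne_zero hv.2.2.2 fv.ne') (mul_ne_zero hw.2.2.2 fw.ne')
    (by linarith) (by
      rw [eX, ← na]
      push_cast
      rw [div_neg, div_neg]
      ring) (by
      rw [← nc]
      push_cast
      rw [neg_div, div_neg, neg_neg, div_neg]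
      ring) (by rw [hsq _ haq]; exact D.fsq q) (by rw [hsq _ har]; exact D.fsq r)
    (by rw [eX, hsq' _ hap]; exact D.fsq p) with h1 | h1 | h1
  · exact h1
  · exfalso
    have hw1 : D.c w = -1 ∧ D.f w = 35 := by
      rcases ow.c1 with u | u <;> rw [u] at h1 <;> omega
    have hv1 : D.c v = 1 ∧ D.f v = 21 := by
      rcases ov.c1 with u | u <;> rw [u] at h1 <;> omega
    have h2 : D.rho w = w := by
      by_contra hne2
      have h3 : D.c (D.rho w) ≠ 0 := by rw [D.crho, ow.a0, ow.b0, hw1.1]; norm_num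
      have h4 : D.a (D.rho w) = 0 := by rw [D.arho, ow.b0]
      apply h3
      apply hz _ _ _ _ hne2
      · intro h5; rw [h5] at h4; omega
      · intro h5; rw [h5] at h4; omega
      · intro h5
        have := D.frho w
        rw [h5] at this; omega
    exact D.excl w h2 hw1.2 ow.a0 ow.b0 hw1.1 hd.2
  · exfalso
    have hw1 : D.c v = -1 ∧ D.f v = 35 := by
      rcases ov.c1 with u | u <;> rw [u] at h1 <;> omega
    have hv1 : D.c w = 1 ∧ D.f w = 21 := by
      rcases ow.c1 with u | u <;> rw [u] at h1 <;> omega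
    have h2 : D.rho v = v := by
      by_contra hne2
      have h3 : D.c (D.rho v) ≠ 0 := by rw [D.crho, ov.a0, ov.b0, hw1.1]; norm_num
      have h4 : D.a (D.rho v) = 0 := by rw [D.arho, ov.b0]
      apply h3
      apply hz _ _ _ hne2
      · intro h5
        have := D.frho v
        rw [h5] at this; omega
      · intro h5; rw [h5] at h4; omega
      · intro h5; rw [h5] at h4; omega
    exact D.excl v h2 hw1.2 ov.a0 ov.b0 hw1.1 hd.1

theorem case2_final (h : Conf D p q r) (hcp : D.c p = D.a p) (hcq : D.c q = D.a q)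
    (hcr : D.c r = 0) : False := by
  classical
  have hcard := supp_c_card h.hc1
  set S := Finset.univ.filter (fun i => D.c i ≠ 0) with hS
  have haq := h.haq
  have har := h.har
  have hap := h.hap
  have hcrq : D.c (D.rho q) = 0 := by rw [h.crq, hcq, sub_self]
  have hcrr : D.c (D.rho r) = - D.a r := by rw [h.crr, hcr, zero_sub]
  have harr : D.a (D.rho r) = 0 := by rw [D.arho, h.hbr]
  have hbrr : D.b (D.rho r) = D.a r := D.brho r
  set u := D.rho r with hu
  have hpu : p ≠ u := by intro h1; rw [← h1] at harr; omega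
  have hqu : q ≠ u := by intro h1; rw [← h1] at harr; omega
  have hou : D.o ≠ u := by intro h1; rw [← h1, D.ao] at harr; omega
  have hpS : p ∈ S := by
    rw [hS, Finset.mem_filter]; refine ⟨Finset.mem_univ _, ?_⟩; omega
  have hqS : q ∈ S.erase p := by
    rw [Finset.mem_erase, hS, Finset.mem_filter]
    refine ⟨h.hpq.symm, Finset.mem_univ _, ?_⟩; omega
  have huS : u ∈ (S.erase p).erase q := by
    rw [Finset.mem_erase, Finset.mem_erase, hS, Finset.mem_filter]
    refine ⟨hqu.symm, hpu.symm, Finset.mem_univ _, ?_⟩; omega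
  have hc2 : (((S.erase p).erase q).erase u).card = 1 := by
    rw [Finset.card_erase_of_mem huS, Finset.card_erase_of_mem hqS, Finset.card_erase_of_mem hpS,
      hcard]
  obtain ⟨v, hSv⟩ := Finset.card_eq_one.mp hc2
  have hv : v ∈ ((S.erase p).erase q).erase u := by rw [hSv]; exact Finset.mem_singleton_self _
  rw [Finset.mem_erase, Finset.mem_erase, Finset.mem_erase, hS, Finset.mem_filter] at hv
  have hz : ∀ i, i ≠ p → i ≠ q → i ≠ u → i ≠ v → D.c i = 0 := by
    intro i h1 h2 h3 h4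
    by_contra h5
    have : i ∈ ((S.erase p).erase q).erase u := by
      rw [Finset.mem_erase, Finset.mem_erase, Finset.mem_erase, hS, Finset.mem_filter]
      exact ⟨h3, h2, h1, Finset.mem_univ _, h5⟩
    rw [hSv, Finset.mem_singleton] at this
    exact h4 this
  have hne : ∀ x y : I, D.c x ≠ 0 → D.c y = 0 → x ≠ y := by
    rintro x y h1 h2 rfl
    exact h1 h2
  have hcv := hv.2.2.2.2
  have ov : Out D v := h.out hcv hv.2.1 (hne _ _ hcv hcr) hv.2.2.1 (hne _ _ hcv hcrq) hv.1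
  have hpv : p ≠ v := hv.2.2.1.symm
  have hqv : q ≠ v := hv.2.1.symm
  have huv : u ≠ v := hv.1.symm
  obtain ⟨dp, dq, dr⟩ := h.d_zero
  have du : D.d u = 0 := by rw [hu, D.drho, dr]
  have fu : D.f u = D.f r := by rw [hu, D.frho]
  have dv : D.d v = 0 := by
    have h1 := D.cd
    rw [sum_on4 h.hpq hpu hpv hqu hqv huv _
      (fun i h1 h2 h3 h4 => by rw [hz i h1 h2 h3 h4, zero_mul]), dp, dq, du] at h1
    have h2 : D.c v * D.d v = 0 := by linarith
    exact (mul_eq_zero.mp h2).resolve_left hcv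
  have sa := D.af
  rw [sum_on4 h.hop h.hoq h.hor h.hpq h.hpr h.hqr _
    (fun i h1 h2 h3 h4 => by rw [h.ha i h1 h2 h3 h4, zero_mul]), D.ao, D.fo] at sa
  have sc := D.cf
  rw [sum_on4 h.hpq hpu hpv hqu hqv huv _
      (fun i h1 h2 h3 h4 => by rw [hz i h1 h2 h3 h4, zero_mul]), hcp, hcq, hcrr, fu] at sc
  have tp : tauF (D.a p) (D.b p) (D.c p) (D.d p) = 6 * D.a p := by
    unfold tauF; rw [h.hbp, hcp, dp]; ring
  have tq : tauF (D.a q) (D.b q) (D.c q) (D.d q) = 3 * D.a q := by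
    unfold tauF; rw [h.hbq, hcq, dq]; ring
  have tr : tauF (D.a r) (D.b r) (D.c r) (D.d r) = -2 * D.a r := by
    unfold tauF; rw [h.hbr, hcr, dr]; ring
  have tu : tauF (D.a u) (D.b u) (D.c u) (D.d u) = -2 * D.a r := by
    unfold tauF; rw [harr, hbrr, hcrr, du]; ring
  have tv : tauF (D.a v) (D.b v) (D.c v) (D.d v) = 5 * D.c v := by
    unfold tauF; rw [ov.a0, ov.b0, dv]; ring
  have t0 : tauF (D.a D.o) (D.b D.o) (D.c D.o) (D.d D.o) = 1 := by
    unfold tauF; rw [D.ao, D.bo, D.co, D.d_o]; norm_num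
  have sq1 : ∀ {s : ℤ}, (s = 1 ∨ s = -1) → (s : ℚ) ^ 2 = 1 := by
    rintro s (rfl | rfl) <;> norm_num
  have hnar : -D.a r = 1 ∨ -D.a r = -1 := by omega
  have na := D.na
  rw [sum_on4 h.hop h.hoq h.hor h.hpq h.hpr h.hqr _
    (fun i h1 h2 h3 h4 => by rw [h.ha i h1 h2 h3 h4, Int.cast_zero, zero_mul, zero_div]),
    t0, tp, tq, tr, D.ao, D.fo, sgn_div hap, sgn_div haq, sgn_div har] at na
  have nc := D.nc
  rw [sum_on4 h.hpq hpu hpv hqu hqv huv _
      (fun i h1 h2 h3 h4 => by rw [hz i h1 h2 h3 h4, Int.cast_zero, zero_mul, zero_div]),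
    tp, tq, tu, tv, hcp, hcq, hcrr, fu, sgn_div hap, sgn_div haq, sgn_div hnar,
    sgn_div ov.c1] at nc
  push_cast at na nc
  rw [mul_pow, mul_pow, mul_pow, sq1 hap, sq1 haq, sq1 har] at na
  rw [mul_pow, mul_pow, mul_pow, mul_pow, sq1 hap, sq1 haq, sq1 har, sq1 ov.c1] at nc
  have mp := D.fmod p h.hop.symm
  have mq := D.fmod q h.hoq.symm
  have mr := D.fmod r h.hor.symm
  have gp := D.fge p h.hop.symm
  have gq := D.fge q h.hoq.symm
  have gr := D.fge r h.hor.symm
  have lp := D.fge' p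
  have lq := D.fge' q
  have lr := D.fge' r
  rw [tp] at mp gp lp
  rw [tq] at mq gq lq
  rw [tr] at mr gr lr
  have hsq' : ∀ {s : ℤ} (f : ℤ), (s = 1 ∨ s = -1) → (s * f) * (s * f) = f * f := by
    rintro s f (rfl | rfl) <;> ring
  have eX : (D.a p * D.f p) % 8 = 6 ∧ (14 ≤ D.a p * D.f p ∨ D.a p * D.f p ≤ -42) := by
    rcases hap with v1 | v1 <;> rw [v1] at mp gp lp ⊢ <;> omega
  have eY : (D.a q * D.f q) % 8 = 3 ∧ (11 ≤ D.a q * D.f q ∨ D.a q * D.f q ≤ -21) := by
    rcases haq with v1 | v1 <;> rw [v1] at mq gq lq ⊢ <;> omega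
  have eZ : (14 ≤ D.a r * D.f r ∨ D.a r * D.f r ≤ -10) := by
    rcases har with v1 | v1 <;> rw [v1] at mr gr lr ⊢ <;> omega
  refine case2 (X := D.a p * D.f p) (Y := D.a q * D.f q) (Z := D.a r * D.f r)
    (V := D.c v * D.f v) (N := D.N) eX.1 eY.1 eX.2 eY.2 eZ (by linarith) (by linarith) ?_ ?_ ?_ ?_
  · rw [← na]; push_cast; ring
  · rw [← nc]; push_cast
    rw [neg_mul, div_neg]
    ring
  · rw [hsq' _ hap]; exact D.fsq p
  · rw [hsq' _ haq]; exact D.fsq q

theorem Dat.N_eq (D : Dat I) : D.N = 175560 := by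
  obtain ⟨p, q, r, h⟩ := exists_conf D
  rcases h.c_cases with h1 | h1 | h1
  · exact case1_final h h1.1 h1.2.1 h1.2.2
  · exact (case2_final h h1.1 h1.2.1 h1.2.2).elim
  · exact (case2_final h.swap h1.1 h1.2.2 h1.2.1).elim

end Cfsg.Agent.JC
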