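import Cfsg.Agent.JC.Chars

/-! The class constants. -/

set_option autoImplicit false

namespace Cfsg.Agent.JC

open scoped ComplexConjugate
open Cfsg Subgroup

section

variable {G : Type*} [Group G] [Finite G]

theorem card_conj_fiber {t a : G} (h : IsConj t a) :
    Nat.card {q : G // q * t * q⁻¹ = a} = Nat.card (centralizer ({t} : Set G)) := by
  obtain ⟨g, rfl⟩ := isConj_iff.mp h
  symm
  refine Nat.card_congr ⟨fun c => ⟨g * c.1, ?_⟩, fun q => ⟨g⁻¹ * q.1, ?_⟩, ?_, ?_⟩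
  · have hc := mem_centralizer_singleton_iff.mp c.2
    have : g * c.1 * t * (g * c.1)⁻¹ = g * (c.1 * t * c.1⁻¹) * g⁻¹ := by group
    rw [this, hc, mul_inv_cancel_right]
  · rw [mem_centralizer_singleton_iff]
    have h2 := q.2
    have h3 : q.1 * t = g * t * g⁻¹ * q.1 := mul_inv_eq_iff_eq_mul.mp h2
    rw [mul_assoc, h3]; group
  · intro c; apply Subtype.ext; simp
  · intro q; apply Subtype.ext; simp

variable (E : Emb G)

/-- The counting lemma. -/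
theorem card_pairs_eq [Fintype G] [DecidableEq G] [IsSimpleGroup G] (h16 : ¬ 16 ∣ Nat.card G)
    {y : CA} {k : ℕ} (hk : y ^ k = zz) :
    ((Finset.univ : Finset (G × G)).filter
      (fun q => q.1 * E.iota zz * q.1⁻¹ * (q.2 * E.iota zz * q.2⁻¹) = E.iota y)).card =
    14400 * Fintype.card {x : CA // x * x = 1 ∧ x ≠ 1 ∧ (x * y) * (x * y) = 1 ∧ x * y ≠ 1} := by
  classical
  set t := E.iota zz with ht
  have ht2 : t * t = 1 := E.zz_sq'
  have ht1 : t ≠ 1 := E.zz_ne'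
  rw [← Fintype.card_subtype, ← Nat.card_eq_fintype_card, ← Nat.card_eq_fintype_card]
  have key : ∀ q1 q2 : G, q1 * t * q1⁻¹ * (q2 * t * q2⁻¹) = E.iota y →
      ∃ x : CA, E.iota x = q1 * t * q1⁻¹ := by
    intro q1 q2 h
    obtain ⟨a, ha⟩ : ∃ a, a = q1 * t * q1⁻¹ := ⟨_, rfl⟩
    obtain ⟨b, hb⟩ : ∃ b, b = q2 * t * q2⁻¹ := ⟨_, rfl⟩
    rw [← ha, ← hb] at h
    rw [← ha]
    have ha2 : a * a = 1 := by
      rw [ha]
      have : q1 * t * q1⁻¹ * (q1 * t * q1⁻¹) = q1 * (t * t) * q1⁻¹ := by group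
      rw [this, ht2]; group
    have hb2 : b * b = 1 := by
      rw [hb]
      have : q2 * t * q2⁻¹ * (q2 * t * q2⁻¹) = q2 * (t * t) * q2⁻¹ := by group
      rw [this, ht2]; group
    have hai : a⁻¹ = a := inv_eq_of_mul_eq_one_left ha2
    have hbi : b⁻¹ = b := inv_eq_of_mul_eq_one_left hb2
    have h1 : a * E.iota y * a⁻¹ = (E.iota y)⁻¹ := by
      rw [← h, mul_inv_rev, hai, hbi, ← mul_assoc, ha2, one_mul]
    have h2 : a * t * a⁻¹ = t := by
      rw [ht, ← hk, map_pow, ← conj_pow, h1, inv_pow, ← map_pow, hk, ← ht]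
      exact inv_eq_of_mul_eq_one_left ht2
    exact E.cent a (by rw [← ht]; exact mul_inv_eq_iff_eq_mul.mp h2)
  have e : {q : G × G // q.1 * t * q.1⁻¹ * (q.2 * t * q.2⁻¹) = E.iota y} ≃
      Σ x : {x : CA // x * x = 1 ∧ x ≠ 1 ∧ (x * y) * (x * y) = 1 ∧ x * y ≠ 1},
        {q : G // q * t * q⁻¹ = E.iota x.1} × {q : G // q * t * q⁻¹ = E.iota (x.1 * y)} := by
    have hx : ∀ q : {q : G × G // q.1 * t * q.1⁻¹ * (q.2 * t * q.2⁻¹) = E.iota y},
        ∃ x : {x : CA // x * x = 1 ∧ x ≠ 1 ∧ (x * y) * (x * y) = 1 ∧ x * y ≠ 1},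
          q.1.1 * t * q.1.1⁻¹ = E.iota x.1 ∧ q.1.2 * t * q.1.2⁻¹ = E.iota (x.1 * y) := by
      rintro ⟨⟨q1, q2⟩, h⟩
      obtain ⟨x, hx⟩ := key q1 q2 h
      have hxx : E.iota x * E.iota x = 1 := by
        rw [hx]
        have : q1 * t * q1⁻¹ * (q1 * t * q1⁻¹) = q1 * (t * t) * q1⁻¹ := by group
        rw [this, ht2]; group
      have hb : q2 * t * q2⁻¹ = E.iota (x * y) := by
        rw [map_mul, ← h]
        change _ = E.iota x * (q1 * t * q1⁻¹ * (q2 * t * q2⁻¹))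
        rw [← hx, ← mul_assoc, hxx, one_mul]
      refine ⟨⟨x, ?_, ?_, ?_, ?_⟩, hx.symm, hb⟩
      · apply E.inj; rw [map_mul, hxx, map_one]
      · rintro rfl
        rw [map_one] at hx
        apply ht1
        have : t = q1⁻¹ * (q1 * t * q1⁻¹) * q1 := by group
        rw [this, ← hx]; group
      · apply E.inj
        rw [map_mul, map_one, ← hb]
        have : q2 * t * q2⁻¹ * (q2 * t * q2⁻¹) = q2 * (t * t) * q2⁻¹ := by group
        rw [this, ht2]; group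
      · intro h1
        rw [h1, map_one] at hb
        apply ht1
        have : t = q2⁻¹ * (q2 * t * q2⁻¹) * q2 := by group
        rw [this, hb]; group
    choose X hX1 hX2 using hx
    refine ⟨fun q => ⟨X q, ⟨q.1.1, hX1 q⟩, ⟨q.1.2, hX2 q⟩⟩,
      fun p => ⟨(p.2.1.1, p.2.2.1), ?_⟩, ?_, ?_⟩
    · change p.2.1.1 * t * p.2.1.1⁻¹ * (p.2.2.1 * t * p.2.2.1⁻¹) = _
      rw [p.2.1.2, p.2.2.2, ← map_mul, ← mul_assoc, p.1.2.1, one_mul]
    · intro q; rfl
    · rintro ⟨x, ⟨q1, h1⟩, ⟨q2, h2⟩⟩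
      have hcond : q1 * t * q1⁻¹ * (q2 * t * q2⁻¹) = E.iota y := by
        rw [h1, h2, ← map_mul, ← mul_assoc, x.2.1, one_mul]
      have hxx : X ⟨(q1, q2), hcond⟩ = x := by
        apply Subtype.ext
        apply E.inj
        rw [← hX1 ⟨(q1, q2), hcond⟩, ← h1]
      have : ∀ (x' : {x : CA // x * x = 1 ∧ x ≠ 1 ∧ (x * y) * (x * y) = 1 ∧ x * y ≠ 1})
          (hx' : x' = x) (p1 : q1 * t * q1⁻¹ = E.iota x'.1)
          (p2 : q2 * t * q2⁻¹ = E.iota (x'.1 * y)),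
          (⟨x', ⟨q1, p1⟩, ⟨q2, p2⟩⟩ :
          Σ x : {x : CA // x * x = 1 ∧ x ≠ 1 ∧ (x * y) * (x * y) = 1 ∧ x * y ≠ 1},
          {q : G // q * t * q⁻¹ = E.iota x.1} × {q : G // q * t * q⁻¹ = E.iota (x.1 * y)}) =
          ⟨x, ⟨q1, h1⟩, ⟨q2, h2⟩⟩ := by
        rintro x' rfl p1 p2
        rfl
      exact this _ hxx _ _
  rw [Nat.card_congr e, Nat.card_sigma]
  have hf : ∀ x : {x : CA // x * x = 1 ∧ x ≠ 1 ∧ (x * y) * (x * y) = 1 ∧ x * y ≠ 1},
      Nat.card ({q : G // q * t * q⁻¹ = E.iota x.1} × {q : G // q * t * q⁻¹ = E.iota (x.1 * y)}) =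
      14400 := by
    intro x
    have hne : ∀ w : CA, w ≠ 1 → E.iota w ≠ 1 := by
      intro w hw h
      apply hw
      apply E.inj
      rw [h, map_one]
    have c1 : IsConj t (E.iota x.1) := conj_inv E h16 (by rw [← map_mul, x.2.1, map_one])
      (hne _ x.2.2.1)
    have c2 : IsConj t (E.iota (x.1 * y)) :=
      conj_inv E h16 (by rw [← map_mul, x.2.2.2.1, map_one]) (hne _ x.2.2.2.2)
    rw [Nat.card_prod, card_conj_fiber c1, card_conj_fiber c2, ht, E.card_cent_zz]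
  rw [Finset.sum_congr rfl fun x _ => hf x, Finset.sum_const, Finset.card_univ, smul_eq_mul,
    mul_comm, Nat.card_eq_fintype_card]

def ff : Fin 4 → ℕ := ![30, 6, 10, 10]

theorem card_ff (i : Fin 4) : Fintype.card {x : CA // x * x = 1 ∧ x ≠ 1 ∧
    (x * el i) * (x * el i) = 1 ∧ x * el i ≠ 1} = ff i := by
  fin_cases i
  · exact count_z
  · exact count_u3
  · exact count_w1
  · exact count_w2

/-- `Σ χ(t)² χ(u)/χ(1)`. -/
theorem sum_count [IsSimpleGroup G] [Fintype (IrrCharacter G)] (h16 : ¬ 16 ∣ Nat.card G)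
    (i : Fin 4) :
    (Nat.card G : ℂ) * ∑ χ : IrrCharacter G,
      xv (rs E χ) 0 ^ 2 * xv (rs E χ) i / (χ : G → ℂ) 1 = 14400 * ff i := by
  classical
  have := Fintype.ofFinite G
  have h1 := H79.card_pairs (E.iota zz) (E.iota zz) (E.iota (el i))
  rw [card_pairs_eq E h16 (el_pow i), card_ff] at h1
  rw [← Nat.cast_ofNat (R := ℂ) (n := 14400), ← Nat.cast_mul, h1]
  congr 1
  refine Finset.sum_congr rfl fun χ _ => ?_
  have h2 : (χ : G → ℂ) (E.iota (el i))⁻¹ = xv (rs E χ) i := by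
    rw [← map_inv]
    exact (psi_conj (rs_isCharacter E χ) (real_el i)).symm
  rw [h2]
  change _ = _
  rw [pow_two]
  rfl

/-- `Σ χ(t)² (Σ α_i χ(u_i))/χ(1)`. -/
theorem lin_count [IsSimpleGroup G] [Fintype (IrrCharacter G)] (h16 : ¬ 16 ∣ Nat.card G)
    (α : Fin 4 → ℂ) :
    (Nat.card G : ℂ) * ∑ χ : IrrCharacter G,
      xv (rs E χ) 0 ^ 2 * (∑ i, α i * xv (rs E χ) i) / (χ : G → ℂ) 1 =
      14400 * ∑ i, α i * ff i := by
  have h1 : ∀ χ : IrrCharacter G,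
      xv (rs E χ) 0 ^ 2 * (∑ i, α i * xv (rs E χ) i) / (χ : G → ℂ) 1 =
      ∑ i, α i * (xv (rs E χ) 0 ^ 2 * xv (rs E χ) i / (χ : G → ℂ) 1) := by
    intro χ
    rw [Finset.mul_sum, Finset.sum_div]
    refine Finset.sum_congr rfl fun i _ => by ring
  rw [Finset.sum_congr rfl fun χ _ => h1 χ, Finset.sum_comm, Finset.mul_sum, Finset.mul_sum]
  refine Finset.sum_congr rfl fun i _ => ?_
  rw [← Finset.mul_sum]
  have h2 := sum_count E h16 i
  linear_combination α i * h2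

end

end Cfsg.Agent.JC
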