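import Cfsg.Agent.JC.CA2
import Cfsg.Agent.Char.Linear
import Cfsg.Agent.CharBase.Ortho
import Mathlib.RingTheory.RootsOfUnity.Complex

/-! Integrality of character values through restriction to cyclic subgroups. -/

set_option autoImplicit false

namespace Cfsg.Agent.JC

open scoped ComplexConjugate
open Cfsg

/-- The homomorphism from a cyclic group given by an element with `g ^ n = 1`. -/
def powHom {M : Type*} [Monoid M] (n : ℕ) [NeZero n] (g : M) (hg : g ^ n = 1) :
    Multiplicative (ZMod n) →* M where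
  toFun k := g ^ (Multiplicative.toAdd k).val
  map_one' := by
    change g ^ (0 : ZMod n).val = 1
    rw [ZMod.val_zero, pow_zero]
  map_mul' := by
    intro a b
    change g ^ (Multiplicative.toAdd a + Multiplicative.toAdd b).val = _
    rw [ZMod.val_add, ← pow_add]
    conv_rhs => rw [← Nat.mod_add_div ((Multiplicative.toAdd a).val +
      (Multiplicative.toAdd b).val) n, pow_add, pow_mul, hg, one_pow, mul_one]

theorem sum_cyc {n : ℕ} [NeZero n] (F : ℕ → ℂ) :
    ∑ k : Multiplicative (ZMod n), F (Multiplicative.toAdd k).val = ∑ k ∈ Finset.range n, F k := by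
  have h1 : ∑ k : Multiplicative (ZMod n), F (Multiplicative.toAdd k).val =
      ∑ k : ZMod n, F k.val :=
    Fintype.sum_equiv Multiplicative.toAdd _ _ (fun _ => rfl)
  rw [h1, ← Fin.sum_univ_eq_sum_range]
  refine Finset.sum_bij (fun k _ => ⟨k.val, ZMod.val_lt k⟩) ?_ ?_ ?_ ?_
  · intro a _; exact Finset.mem_univ _
  · intro a _ b _ h
    exact ZMod.val_injective n (congrArg Fin.val h)
  · intro b _
    refine ⟨((b : ℕ) : ZMod n), Finset.mem_univ _, ?_⟩
    apply Fin.ext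
    exact ZMod.val_cast_of_lt b.2
  · intro a _; rfl

/-- Multiplicity of an eigenvalue. -/
theorem mult_nat {H : Type*} [Group H] {ψ : H → ℂ} (hψ : IsCharacter H ψ) (n : ℕ)
    [NeZero n] {g : H} (hg : g ^ n = 1) {ω : ℂ} (hω : ω ^ n = 1) :
    ∃ m : ℕ, ∑ k ∈ Finset.range n, ψ (g ^ k) * conj (ω ^ k) = n * m := by
  have h1 : IsCharacter (Multiplicative (ZMod n)) (fun k => ψ (powHom n g hg k)) :=
    CharBase.isCharacter_comp hψ (powHom n g hg)
  have h2 : IsCharacter (Multiplicative (ZMod n)) (fun k => powHom n ω hω k) :=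
    Char.isCharacter_of_hom (powHom n ω hω)
  obtain ⟨m, hm⟩ := CharBase.classInner_natCast h1 h2
  refine ⟨m, ?_⟩
  rw [← hm]
  unfold classInner
  have h3 : (Nat.card (Multiplicative (ZMod n)) : ℂ) = n := by
    rw [Nat.card_eq_fintype_card, Fintype.card_multiplicative, ZMod.card]
  have h4 : (n : ℂ) ≠ 0 := by exact_mod_cast NeZero.ne n
  rw [h3, mul_inv_cancel_left₀ h4]
  symm
  exact sum_cyc (fun k => ψ (g ^ k) * conj (ω ^ k))

/-- Fifth root of unity. -/
noncomputable def zeta : ℂ := Complex.exp (2 * Real.pi * Complex.I / 5)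

theorem zeta_prim : IsPrimitiveRoot zeta 5 := Complex.isPrimitiveRoot_exp 5 (by norm_num)

noncomputable def ss : ℂ := zeta + zeta ^ 4
noncomputable def st : ℂ := zeta ^ 2 + zeta ^ 3

theorem zeta_pow : zeta ^ 5 = 1 := zeta_prim.pow_eq_one

theorem zeta_sum : 1 + zeta + zeta ^ 2 + zeta ^ 3 + zeta ^ 4 = 0 := by
  have h := zeta_prim.geom_sum_eq_zero (by norm_num)
  simpa [Finset.sum_range_succ] using h

theorem ss_add : ss + st = -1 := by
  have := zeta_sum
  unfold ss st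
  linear_combination this

theorem ss_mul : ss * st = -1 := by
  unfold ss st
  have h5 := zeta_pow
  have : (zeta + zeta ^ 4) * (zeta ^ 2 + zeta ^ 3) = zeta ^ 3 + zeta ^ 4 + zeta ^ 5 * (zeta +
    zeta ^ 2) := by ring
  rw [this, h5]
  linear_combination zeta_sum

theorem conj_zeta_pow (k : ℕ) (hk : k ≤ 5) : conj (zeta ^ k) = zeta ^ (5 - k) := by
  have hn : zeta * conj zeta = 1 := by
    have h1 : ‖zeta‖ = 1 := zeta_prim.norm'_eq_one (by norm_num)
    rw [Complex.mul_conj, Complex.normSq_eq_norm_sq, h1]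
    norm_num
  have h2 : zeta ^ k * conj (zeta ^ k) = 1 := by
    rw [map_pow, ← mul_pow, hn, one_pow]
  have h3 : zeta ^ k * zeta ^ (5 - k) = 1 := by
    rw [← pow_add, Nat.add_sub_cancel' hk, zeta_pow]
  have h4 : zeta ^ k ≠ 0 := left_ne_zero_of_mul_eq_one h2
  exact mul_left_cancel₀ h4 (h2.trans h3.symm)

theorem conj_ss : conj ss = ss := by
  unfold ss
  rw [map_add, conj_zeta_pow 4 (by norm_num)]
  have := conj_zeta_pow 1 (by norm_num)
  rw [pow_one] at this
  rw [this]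
  norm_num
  ring

theorem conj_st : conj st = st := by
  unfold st
  rw [map_add, conj_zeta_pow 2 (by norm_num), conj_zeta_pow 3 (by norm_num)]
  norm_num
  ring

/-- The odd part of the multiplicity formula for an element of order `10`. -/
theorem odd_ten {H : Type*} [Group H] {ψ : H → ℂ} (hψ : IsCharacter H ψ) {g : H}
    (hg : g ^ 10 = 1) {ω : ℂ} (hω : ω ^ 5 = 1) :
    ∃ P : ℤ, ψ g * conj ω + ψ (g ^ 3) * conj (ω ^ 3) + ψ (g ^ 5) + ψ (g ^ 7) * conj (ω ^ 2) +
      ψ (g ^ 9) * conj (ω ^ 4) = 5 * P := by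
  have hω10 : ω ^ 10 = 1 := by
    rw [show (10 : ℕ) = 5 * 2 by norm_num, pow_mul, hω, one_pow]
  have hω10' : (-ω) ^ 10 = 1 := by
    rw [neg_pow, hω10]; norm_num
  obtain ⟨m, hm⟩ := mult_nat hψ 10 hg hω10
  obtain ⟨m', hm'⟩ := mult_nat hψ 10 hg hω10'
  refine ⟨(m : ℤ) - m', ?_⟩
  simp only [Finset.sum_range_succ, Finset.sum_range_zero] at hm hm'
  have e5 : ω ^ 5 = 1 := hω
  have e7 : ω ^ 7 = ω ^ 2 := by
    rw [show (7 : ℕ) = 5 + 2 by norm_num, pow_add, e5, one_mul]
  have e9 : ω ^ 9 = ω ^ 4 := by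
    rw [show (9 : ℕ) = 5 + 4 by norm_num, pow_add, e5, one_mul]
  simp only [neg_pow ω, e5, e7, e9, map_mul, map_pow, map_neg, map_one, pow_zero, pow_one]
    at hm hm' ⊢
  push_cast
  linear_combination (1 / 2 : ℂ) * hm - (1 / 2 : ℂ) * hm'

/-- The odd part of the multiplicity formula for an element of order `6`. -/
theorem odd_six {H : Type*} [Group H] {ψ : H → ℂ} (hψ : IsCharacter H ψ) {g : H}
    (hg : g ^ 6 = 1) {ω : ℂ} (hω : ω ^ 3 = 1) :
    ∃ Q : ℤ, ψ g * conj ω + ψ (g ^ 3) + ψ (g ^ 5) * conj (ω ^ 2) = 3 * Q := by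
  have hω6 : ω ^ 6 = 1 := by
    rw [show (6 : ℕ) = 3 * 2 by norm_num, pow_mul, hω, one_pow]
  have hω6' : (-ω) ^ 6 = 1 := by
    rw [neg_pow, hω6]; norm_num
  obtain ⟨m, hm⟩ := mult_nat hψ 6 hg hω6
  obtain ⟨m', hm'⟩ := mult_nat hψ 6 hg hω6'
  refine ⟨(m : ℤ) - m', ?_⟩
  simp only [Finset.sum_range_succ, Finset.sum_range_zero] at hm hm'
  have e3 : ω ^ 3 = 1 := hω
  have e5 : ω ^ 5 = ω ^ 2 := by
    rw [show (5 : ℕ) = 3 + 2 by norm_num, pow_add, e3, one_mul]
  simp only [neg_pow ω, e3, e5, map_mul, map_pow, map_neg, map_one, pow_zero, pow_one]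
    at hm hm' ⊢
  push_cast
  linear_combination (1 / 2 : ℂ) * hm - (1 / 2 : ℂ) * hm'

end Cfsg.Agent.JC
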