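import Cfsg.Agent.JC.Num
import Mathlib.Data.ZMod.Basic

/-! Grid searches, II: the second case. -/

set_option autoImplicit false

namespace Cfsg.Agent.JC

def chk2 (X Y S : ℕ) : Bool :=
  !(Nat.beq ((27 * (4 * Y + X) * ((2 * S + 3) * S + 1)) % 1125899906842624)
    ((X * Y * ((4 * S + 75) * S + 99)) % 1125899906842624))

theorem chk2_all : allR 302 (fun i => allR 301 (fun j =>
    chk2 (8 * i + 1125899906841422) (8 * j + 1125899906841427)
    (8 * (i + j) + 1125899906840225))) = true := by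
  decide +kernel

theorem chk2_spec {X Y S : ℕ} (h : chk2 X Y S = true) :
    (27 * (4 * Y + X) * ((2 * S + 3) * S + 1)) % 1125899906842624 ≠
    (X * Y * ((4 * S + 75) * S + 99)) % 1125899906842624 := by
  intro e
  unfold chk2 at h
  rw [e, Nat.beq_refl] at h
  exact absurd h (by decide)

theorem no_case2 {X Y : ℤ} (hX : X % 8 = 6) (hY : Y % 8 = 3) (hX1 : -1202 ≤ X) (hX2 : X ≤ 1206)
    (hY1 : -1197 ≤ Y) (hY2 : Y ≤ 1203) :
    27 * (4 * Y + X) * ((2 * (X + Y) + 3) * (X + Y) + 1) ≠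
      X * Y * ((4 * (X + Y) + 75) * (X + Y) + 99) := by
  intro h
  obtain ⟨i, hi⟩ : ∃ i : ℕ, X = 8 * i - 1202 := ⟨((X + 1202) / 8).toNat, by omega⟩
  obtain ⟨j, hj⟩ : ∃ j : ℕ, Y = 8 * j - 1197 := ⟨((Y + 1197) / 8).toNat, by omega⟩
  apply chk2_spec (allR_spec (allR_spec chk2_all i (by omega)) j (by omega))
  apply (ZMod.natCast_eq_natCast_iff' _ _ _).mp
  have hM : ((1125899906842624 : ℕ) : ZMod 1125899906842624) = 0 := ZMod.natCast_self _
  have e1 : ((8 * i + 1125899906841422 : ℕ) : ZMod 1125899906842624) = (X : ZMod _) := by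
    rw [hi]
    push_cast
    push_cast at hM
    linear_combination hM
  have e2 : ((8 * j + 1125899906841427 : ℕ) : ZMod 1125899906842624) = (Y : ZMod _) := by
    rw [hj]
    push_cast
    push_cast at hM
    linear_combination hM
  have e3 : ((8 * (i + j) + 1125899906840225 : ℕ) : ZMod 1125899906842624) =
      (X : ZMod _) + (Y : ZMod _) := by
    rw [hi, hj]
    push_cast
    push_cast at hM
    linear_combination hM
  have key : ∀ A B C : ℕ, (A : ZMod 1125899906842624) = (X : ZMod _) →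
      (B : ZMod 1125899906842624) = (Y : ZMod _) →
      (C : ZMod 1125899906842624) = (X : ZMod _) + (Y : ZMod _) →
      ((27 * (4 * B + A) * ((2 * C + 3) * C + 1) : ℕ) : ZMod 1125899906842624) =
      ((A * B * ((4 * C + 75) * C + 99) : ℕ) : ZMod 1125899906842624) := by
    intro A B C hA hB hC
    push_cast
    rw [hA, hB, hC]
    have h2 := congrArg (Int.cast : ℤ → ZMod 1125899906842624) h
    push_cast at h2
    exact h2
  exact key _ _ _ e1 e2 e3

/-- The second case is impossible. -/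
theorem case2 {X Y Z V N : ℤ} (hX : X % 8 = 6) (hY : Y % 8 = 3) (hX1 : 14 ≤ X ∨ X ≤ -42)
    (hY1 : 11 ≤ Y ∨ Y ≤ -21) (hZ1 : 14 ≤ Z ∨ Z ≤ -10) (hsum : 1 + X + Y + Z = 0)
    (hsum' : X + Y - Z + V = 0)
    (hN : (N : ℚ) * (1 + 36 / (X : ℚ) + 9 / (Y : ℚ) + 4 / (Z : ℚ)) = 144000)
    (hN' : (N : ℚ) * (36 / (X : ℚ) + 9 / (Y : ℚ) - 4 / (Z : ℚ) + 25 / (V : ℚ)) = 57600)
    (h1 : X * X ≤ N) (h2 : Y * Y ≤ N) : False := by
  have hX0 : (X : ℚ) ≠ 0 := by exact_mod_cast (show X ≠ 0 by omega)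
  have hY0 : (Y : ℚ) ≠ 0 := by exact_mod_cast (show Y ≠ 0 by omega)
  have hZ0 : (Z : ℚ) ≠ 0 := by exact_mod_cast (show Z ≠ 0 by omega)
  have hV0 : (V : ℚ) ≠ 0 := by exact_mod_cast (show V ≠ 0 by omega)
  -- lower bounds
  have c1 : -((36 : ℚ) / 42) ≤ 36 / X := by
    apply div_lb (by norm_num) (by norm_num)
    rcases hX1 with h | h
    · left; exact_mod_cast (by omega : 0 < X)
    · right; exact_mod_cast h
  have c2 : -((9 : ℚ) / 21) ≤ 9 / Y := by
    apply div_lb (by norm_num) (by norm_num)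
    rcases hY1 with h | h
    · left; exact_mod_cast (by omega : 0 < Y)
    · right; exact_mod_cast h
  have c3 : -((4 : ℚ) / 10) ≤ 4 / Z := by
    apply div_lb (by norm_num) (by norm_num)
    rcases hZ1 with h | h
    · left; exact_mod_cast (by omega : 0 < Z)
    · right; exact_mod_cast h
  have hXb : -1202 ≤ X ∧ X ≤ 1206 := by
    by_contra hcon
    have hb : 1200 ≤ X ∨ X ≤ -1200 := by omega
    have d1 : -((36 : ℚ) / 1200) ≤ 36 / X := by
      apply div_lb (by norm_num) (by norm_num)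
      rcases hb with h | h
      · left; exact_mod_cast (by omega : 0 < X)
      · right; exact_mod_cast h
    have hN3 : (1440000 : ℤ) ≤ N := by rcases hb with h | h <;> nlinarith
    have hN2 : (1440000 : ℚ) ≤ N := by exact_mod_cast hN3
    have e4 : (1 : ℚ) / 10 < 1 + 36 / (X : ℚ) + 9 / (Y : ℚ) + 4 / (Z : ℚ) := by
      norm_num at c2 c3 d1 ⊢
      linarith
    nlinarith
  have hYb : -1197 ≤ Y ∧ Y ≤ 1203 := by
    by_contra hcon
    have hb : 1198 ≤ Y ∨ Y ≤ -1198 := by omega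
    have d1 : -((9 : ℚ) / 1198) ≤ 9 / Y := by
      apply div_lb (by norm_num) (by norm_num)
      rcases hb with h | h
      · left; exact_mod_cast (by omega : 0 < Y)
      · right; exact_mod_cast h
    have hN3 : (1435204 : ℤ) ≤ N := by rcases hb with h | h <;> nlinarith
    have hN2 : (1435204 : ℚ) ≤ N := by exact_mod_cast hN3
    have e4 : (12 : ℚ) / 100 < 1 + 36 / (X : ℚ) + 9 / (Y : ℚ) + 4 / (Z : ℚ) := by
      by_cases h6 : 600 ≤ X ∨ X ≤ -600
      · have d2 : -((36 : ℚ) / 600) ≤ 36 / X := by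
          apply div_lb (by norm_num) (by norm_num)
          rcases h6 with h | h
          · left; exact_mod_cast (by omega : 0 < X)
          · right; exact_mod_cast h
        norm_num at c3 d1 d2 ⊢
        linarith
      · have h7 : 597 ≤ Z ∨ Z ≤ -597 := by omega
        have d2 : -((4 : ℚ) / 597) ≤ 4 / Z := by
          apply div_lb (by norm_num) (by norm_num)
          rcases h7 with h | h
          · left; exact_mod_cast (by omega : 0 < Z)
          · right; exact_mod_cast h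
        norm_num at c1 d1 d2 ⊢
        linarith
    nlinarith
  apply no_case2 hX hY hXb.1 hXb.2 hYb.1 hYb.2
  have hNne : (N : ℚ) ≠ 0 := by
    intro h
    rw [h, zero_mul] at hN
    norm_num at hN
  have hr : 2 * (1 + 36 / (X : ℚ) + 9 / (Y : ℚ) + 4 / (Z : ℚ)) =
      5 * (36 / (X : ℚ) + 9 / (Y : ℚ) - 4 / (Z : ℚ) + 25 / (V : ℚ)) := by
    apply mul_left_cancel₀ hNne
    linear_combination 2 * hN - 5 * hN'
  have hr2 : (2 : ℚ) * X * Y * Z * V = 108 * Y * Z * V + 27 * X * Z * V - 28 * X * Y * V +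
      125 * X * Y * Z := by
    have h3 : 2 * (1 + 36 / (X : ℚ) + 9 / (Y : ℚ) + 4 / (Z : ℚ)) * (X * Y * Z * V) =
      5 * (36 / (X : ℚ) + 9 / (Y : ℚ) - 4 / (Z : ℚ) + 25 / (V : ℚ)) * (X * Y * Z * V) := by
      rw [hr]
    have h4 : 2 * (1 + 36 / (X : ℚ) + 9 / (Y : ℚ) + 4 / (Z : ℚ)) * (X * Y * Z * V) =
      2 * (X * Y * Z * V + 36 * Y * Z * V + 9 * X * Z * V + 4 * X * Y * V) := by
      field_simp
    have h5 : 5 * (36 / (X : ℚ) + 9 / (Y : ℚ) - 4 / (Z : ℚ) + 25 / (V : ℚ)) * (X * Y * Z * V) =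
      5 * (36 * Y * Z * V + 9 * X * Z * V - 4 * X * Y * V + 25 * X * Y * Z) := by
      field_simp
    rw [h4, h5] at h3
    linear_combination h3
  have hr3 : 2 * X * Y * Z * V = 108 * Y * Z * V + 27 * X * Z * V - 28 * X * Y * V +
      125 * X * Y * Z := by exact_mod_cast hr2
  have hZ : Z = -1 - X - Y := by linarith
  have hV : V = -1 - 2 * X - 2 * Y := by linarith
  rw [hZ, hV] at hr3
  linear_combination (-1 : ℤ) * hr3

end Cfsg.Agent.JC
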