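import Cfsg.Agent.JC.Num1
import Cfsg.Agent.JC.Num2

/-! The combinatorial data attached to the `t`-section. -/

set_option autoImplicit false

namespace Cfsg.Agent.JC

def tauF (a b c d : ℤ) : ℤ := 3 * b - 2 * a + 5 * c + 4 * d

structure Dat (I : Type*) [Fintype I] where
  o : I
  a : I → ℤ
  b : I → ℤ
  c : I → ℤ
  d : I → ℤ
  f : I → ℤ
  N : ℤ
  rho : I → I
  rinj : Function.Injective rho
  ro : rho o = o
  arho : ∀ i, a (rho i) = b i
  brho : ∀ i, b (rho i) = a i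
  crho : ∀ i, c (rho i) = b i - a i + c i
  drho : ∀ i, d (rho i) = d i
  frho : ∀ i, f (rho i) = f i
  ao : a o = 1
  bo : b o = 1
  co : c o = 0
  d_o : d o = 0
  fo : f o = 1
  aa : ∑ i, a i ^ 2 = 4
  bb : ∑ i, b i ^ 2 = 4
  cc : ∑ i, c i ^ 2 = 4
  dd : ∑ i, d i ^ 2 = 2
  ab : ∑ i, a i * b i = 2
  ac : ∑ i, a i * c i = 2
  ad : ∑ i, a i * d i = 0
  cd : ∑ i, c i * d i = 0
  af : ∑ i, a i * f i = 0
  cf : ∑ i, c i * f i = 0
  df : ∑ i, d i * f i = 0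
  na : (N : ℚ) * ∑ i, (a i : ℚ) * ((tauF (a i) (b i) (c i) (d i) : ℤ) : ℚ) ^ 2 / f i = 144000
  nc : (N : ℚ) * ∑ i, (c i : ℚ) * ((tauF (a i) (b i) (c i) (d i) : ℤ) : ℚ) ^ 2 / f i = 57600
  nd : ∑ i, (d i : ℚ) * ((tauF (a i) (b i) (c i) (d i) : ℤ) : ℚ) ^ 2 / f i = 0
  fpos : ∀ i, 0 < f i
  fmod : ∀ i, i ≠ o → (8 : ℤ) ∣ f i - tauF (a i) (b i) (c i) (d i)
  fge : ∀ i, i ≠ o → tauF (a i) (b i) (c i) (d i) + 8 ≤ f i
  fge' : ∀ i, -7 * tauF (a i) (b i) (c i) (d i) ≤ f i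
  fsq : ∀ i, f i * f i ≤ N
  excl : ∀ i, rho i = i → f i = 35 → a i = 0 → b i = 0 → c i = -1 → d i = 0 → False

section

variable {I : Type*} [Fintype I]

theorem supp_sum4 (v : I → ℤ) (h : ∑ i, v i ^ 2 = 4) :
    (∃ i, (v i = 2 ∨ v i = -2) ∧ ∀ j, j ≠ i → v j = 0) ∨
    ((∀ i, v i = 0 ∨ v i = 1 ∨ v i = -1) ∧
      (Finset.univ.filter (fun i => v i ≠ 0)).card = 4) := by
  classical
  by_cases h2 : ∃ i, 2 ≤ v i ∨ v i ≤ -2
  · left
    obtain ⟨i, hi⟩ := h2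
    have h4 : 4 ≤ v i ^ 2 := by rcases hi with h | h <;> nlinarith
    have h5 := Finset.add_sum_erase Finset.univ (fun j => v j ^ 2) (Finset.mem_univ i)
    rw [h] at h5
    have h6 : 0 ≤ ∑ j ∈ Finset.univ.erase i, v j ^ 2 := Finset.sum_nonneg fun j _ => sq_nonneg _
    have h7 : ∑ j ∈ Finset.univ.erase i, v j ^ 2 = 0 := by
      change v i ^ 2 + _ = 4 at h5
      linarith
    have h8 := (Finset.sum_eq_zero_iff_of_nonneg (fun j _ => sq_nonneg (v j))).mp h7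
    refine ⟨i, ?_, fun j hj => ?_⟩
    · change v i ^ 2 + _ = 4 at h5
      rw [h7, add_zero] at h5
      have : (v i - 2) * (v i + 2) = 0 := by linear_combination h5
      rcases mul_eq_zero.mp this with h | h
      · left; linarith
      · right; linarith
    · have := h8 j (Finset.mem_erase.mpr ⟨hj, Finset.mem_univ _⟩)
      exact pow_eq_zero_iff (two_ne_zero) |>.mp this
  · right
    push Not at h2
    have h3 : ∀ i, v i = 0 ∨ v i = 1 ∨ v i = -1 := by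
      intro i
      have := h2 i
      omega
    refine ⟨h3, ?_⟩
    have h4 : ∑ i, v i ^ 2 = ∑ i, (if v i ≠ 0 then (1 : ℤ) else 0) := by
      refine Finset.sum_congr rfl fun i _ => ?_
      rcases h3 i with h | h | h <;> simp [h]
    rw [h4, Finset.sum_boole] at h
    exact_mod_cast h

theorem supp_sum2 (v : I → ℤ) (h : ∑ i, v i ^ 2 = 2) :
    (∀ i, v i = 0 ∨ v i = 1 ∨ v i = -1) ∧
      (Finset.univ.filter (fun i => v i ≠ 0)).card = 2 := by
  classical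
  have h3 : ∀ i, v i = 0 ∨ v i = 1 ∨ v i = -1 := by
    intro i
    by_contra hcon
    have hi : 2 ≤ v i ∨ v i ≤ -2 := by omega
    have h4 : 4 ≤ v i ^ 2 := by rcases hi with h | h <;> nlinarith
    have h5 : v i ^ 2 ≤ ∑ i, v i ^ 2 :=
      Finset.single_le_sum (f := fun i => v i ^ 2) (fun j _ => sq_nonneg (v j)) (Finset.mem_univ i)
    linarith
  refine ⟨h3, ?_⟩
  have h4 : ∑ i, v i ^ 2 = ∑ i, (if v i ≠ 0 then (1 : ℤ) else 0) := by
    refine Finset.sum_congr rfl fun i _ => ?_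
    rcases h3 i with h | h | h <;> simp [h]
  rw [h4, Finset.sum_boole] at h
  exact_mod_cast h

theorem sum_on4 {R : Type*} [AddCommMonoid R] {x1 x2 x3 x4 : I} (h12 : x1 ≠ x2) (h13 : x1 ≠ x3)
    (h14 : x1 ≠ x4) (h23 : x2 ≠ x3) (h24 : x2 ≠ x4) (h34 : x3 ≠ x4) (F : I → R)
    (hF : ∀ i, i ≠ x1 → i ≠ x2 → i ≠ x3 → i ≠ x4 → F i = 0) :
    ∑ i, F i = F x1 + (F x2 + (F x3 + F x4)) := by
  classical
  rw [← Finset.sum_subset (Finset.subset_univ ({x1, x2, x3, x4} : Finset I)),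
    Finset.sum_insert, Finset.sum_insert, Finset.sum_insert, Finset.sum_singleton]
  · simpa using h34
  · simp [h23, h24]
  · simp [h12, h13, h14]
  · intro i _ hi
    simp only [Finset.mem_insert, Finset.mem_singleton, not_or] at hi
    exact hF i hi.1 hi.2.1 hi.2.2.1 hi.2.2.2

theorem sum_on2 {R : Type*} [AddCommMonoid R] {x1 x2 : I} (h12 : x1 ≠ x2) (F : I → R)
    (hF : ∀ i, i ≠ x1 → i ≠ x2 → F i = 0) :
    ∑ i, F i = F x1 + F x2 := by
  classical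
  rw [← Finset.sum_subset (Finset.subset_univ ({x1, x2} : Finset I)),
    Finset.sum_insert, Finset.sum_singleton]
  · simpa using h12
  · intro i _ hi
    simp only [Finset.mem_insert, Finset.mem_singleton, not_or] at hi
    exact hF i hi.1 hi.2

theorem sgn_div {s : ℤ} (hs : s = 1 ∨ s = -1) (t f : ℚ) :
    (s : ℚ) * t / f = t / ((s : ℚ) * f) := by
  rcases hs with rfl | rfl
  · simp
  · push_cast
    rw [neg_one_mul, neg_one_mul, neg_div, div_neg]

end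

end Cfsg.Agent.JC
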