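import Cfsg.Agent.JC.A5s

/-! Excluding the characters of degree `35`. -/

set_option autoImplicit false

namespace Cfsg.Agent.JC

open scoped ComplexConjugate
open Cfsg Subgroup

/-- Vanishing of invariants passes to larger groups. -/
theorem inv_zero {A B G : Type*} [Group A] [Group B] [Group G] [Fintype A] [Fintype B]
    (f : A →* G) (f' : B →* G) (h : ∀ b, ∃ a, f a = f' b) {χ : G → ℂ} (hχ : IsCharacter G χ)
    (h0 : ∑ b, χ (f' b) = 0) : ∑ a, χ (f a) = 0 := by
  obtain ⟨n, ρ, rfl⟩ := hχ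
  have hA : (Nat.card A : ℂ) ≠ 0 := by exact_mod_cast (Nat.card_pos (α := A)).ne'
  have hB : (Nat.card B : ℂ) ≠ 0 := by exact_mod_cast (Nat.card_pos (α := B)).ne'
  let _ : Invertible (Nat.card A : ℂ) := invertibleOfNonzero hA
  let _ : Invertible (Nat.card B : ℂ) := invertibleOfNonzero hB
  have e1 := Representation.card_inv_mul_sum_char_eq_finrank (ρ.comp f : Representation ℂ A _)
  have e2 := Representation.card_inv_mul_sum_char_eq_finrank (ρ.comp f' : Representation ℂ B _)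
  have e3 : ∑ b : B, Representation.character (ρ.comp f' : Representation ℂ B _) b = 0 := h0
  rw [e3, mul_zero] at e2
  have e4 : Module.finrank ℂ (Representation.invariants (ρ.comp f' : Representation ℂ B _)) = 0 := by
    exact_mod_cast e2.symm
  have hle : Representation.invariants (ρ.comp f : Representation ℂ A _) ≤
      Representation.invariants (ρ.comp f' : Representation ℂ B _) := by
    intro v hv b
    obtain ⟨a, ha⟩ := h b
    change ρ (f' b) v = v
    rw [← ha]
    exact hv a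
  have e5 : Module.finrank ℂ (Representation.invariants (ρ.comp f : Representation ℂ A _)) = 0 := by
    apply Nat.le_zero.mp
    rw [← e4]
    exact Submodule.finrank_mono hle
  rw [e5, Nat.cast_zero] at e1
  exact (mul_eq_zero.mp e1).resolve_left (inv_ne_zero hA)

/-- `C2 × A4`. -/
def fA4 : M2 × A4s →* CA := MonoidHom.prodMap (MonoidHom.id M2) A4s.subtype

theorem fA4_kap : ∀ y : E8, ∃ a : M2 × A4s, fA4 a = kap y := by
  intro y
  have h : ∀ a b : M2, (vv a b) ∈ A4s := by decide +kernel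
  exact ⟨(y.1, ⟨vv y.2.1 y.2.2, h _ _⟩), rfl⟩

section

variable {ψ : CA → ℂ} (hψ : IsCharacter CA ψ)

theorem sum_prod_M2 {A : Type*} [Fintype A] (F : M2 × A → ℂ) :
    ∑ y, F y = ∑ σ : A, (F (1, σ) + F (e1, σ)) := by
  rw [Fintype.sum_prod_type_right]
  exact Finset.sum_congr rfl fun σ _ => sum_M2 (fun x => F (x, σ))

include hψ in
theorem val_three {σ : A5} (h1 : σ * σ ≠ 1) (h3 : σ * σ * σ = 1) :
    ψ (1, σ) = ψ m3 ∧ ψ (e1, σ) = ψ u3 := by
  have hne : σ ≠ 1 := by rintro rfl; exact h1 (one_mul 1)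
  obtain ⟨g, hg⟩ := a5_three σ hne h3
  have hc : ∀ x : M2, ψ (x, σ) = ψ (x, c3) := by
    intro x
    apply psi_conj hψ
    refine ⟨(1, g), ?_⟩
    rw [← hg]
    refine Prod.ext ?_ rfl
    change 1 * x * 1⁻¹ = x
    group
  exact ⟨hc 1, hc e1⟩

include hψ in
theorem val_five {σ : A5} (h1 : σ * σ ≠ 1) (h3 : σ * σ * σ ≠ 1) (x : M2) :
    ψ (x, σ) = ψ (x, c5) ∨ ψ (x, σ) = ψ (x, c5 * c5) := by
  obtain ⟨g, hg⟩ := a5_five σ h1 h3
  have hc : ∀ σ' : A5, g * σ * g⁻¹ = σ' → ψ (x, σ) = ψ (x, σ') := by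
    intro σ' hg
    apply psi_conj hψ
    refine ⟨(1, g), ?_⟩
    rw [← hg]
    refine Prod.ext ?_ rfl
    change 1 * x * 1⁻¹ = x
    group
  rcases hg with h | h
  · left; exact hc _ h
  · right; exact hc _ h

theorem w1_even : w1 ^ 2 = ((1, c5 * c5) : CA) ∧ w1 ^ 6 = ((1, c5) : CA) := by
  constructor <;> decide +kernel

theorem conj48 : (∃ y : CA, y * w1 ^ 4 * y⁻¹ = (1, c5)) ∧
    (∃ y : CA, y * w1 ^ 8 * y⁻¹ = (1, c5 * c5)) := by
  constructor <;> decide +kernel

include hψ in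
/-- The numerical contradiction. -/
theorem excl_core (h1 : ψ 1 = 35) (hinv : ∀ y : CA, y ≠ 1 → y * y = 1 → ψ y = -5)
    (hu : ψ u3 = 1) (hw1 : ψ w1 = 0) (hw2 : ψ w2 = 0) (hgal : ψ (1, c5) = ψ (1, c5 * c5)) :
    False := by
  -- no invariants for `E8`
  have hS : ∑ y : E8, ψ (kap y) = 0 := by
    have h2 : ∀ y : E8, y ≠ 1 → (fun y => ψ (kap y)) y = -5 := by
      intro y hy
      apply hinv
      · intro h
        apply hy
        apply kap_inj
        rw [h, map_one]
      · rw [← map_mul, e8_sq, map_one]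
    have h3 := sum_conj_const h2 (fun _ => 1)
    simp only [mul_one] at h3
    rw [h3, map_one, h1, Finset.sum_const, Finset.card_univ, card_E8, nsmul_eq_mul]
    norm_num
  have hne : ∀ (x : M2) {σ : A5}, σ ≠ 1 → ((x, σ) : CA) ≠ 1 := by
    intro x σ h h2
    exact h (congrArg Prod.snd h2)
  have hm2 : ∀ x : M2, x * x = 1 := by decide +kernel
  have hsq : ∀ (x : M2) {σ : A5}, σ * σ = 1 → ((x, σ) : CA) * (x, σ) = 1 :=
    fun x σ h => Prod.ext (hm2 x) h
  have hz : ψ (e1, 1) = -5 := hinv (e1, 1) zz_ne zz_sq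
  have hA4 := inv_zero fA4 kap fA4_kap hψ hS
  rw [sum_prod_M2] at hA4
  rw [sum_A4s (α := 30) (β := -10) (γ := ψ m3 + 1)] at hA4
  · have hC := inv_zero (MonoidHom.id CA) kap (fun b => ⟨kap b, rfl⟩) hψ hS
    rw [sum_prod_M2] at hC
    rw [sum_A5 (α := 30) (β := -10) (γ := ψ m3 + 1) (δ := ψ (1, c5))] at hC
    · have h3 : ψ m3 = -1 := by linear_combination (1 / 8 : ℂ) * hA4
      have h5 : ψ (1, c5) = 5 := by
        rw [h3] at hC
        linear_combination (1 / 24 : ℂ) * hC
      -- the multiplicity in the group generated by `w1`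
      have hz10 : zeta ^ 10 = 1 := by
        rw [show (10 : ℕ) = 5 * 2 by norm_num, pow_mul, zeta_pow, one_pow]
      obtain ⟨m, hm⟩ := mult_nat hψ 10 w1_pow10 hz10
      have v3 := psi_conj hψ isConj_w13
      have v9 := psi_conj hψ isConj_w19
      have v4 := psi_conj hψ conj48.1
      have v8 := psi_conj hψ conj48.2
      simp only [Finset.sum_range_succ, Finset.sum_range_zero] at hm
      rw [pow_zero, pow_one, v3, v9, v4, v8, w1_pow7, w1_pow, w1_even.1, w1_even.2, ← hgal, h5,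
        hw1, hw2, h1] at hm
      have hzz : ψ zz = -5 := hz
      rw [hzz] at hm
      have e5 : zeta ^ 5 = 1 := zeta_pow
      have e6 : zeta ^ 6 = zeta ^ 1 := by
        rw [show (6 : ℕ) = 5 + 1 by norm_num, pow_add, e5, one_mul]
      have e8 : zeta ^ 8 = zeta ^ 3 := by
        rw [show (8 : ℕ) = 5 + 3 by norm_num, pow_add, e5, one_mul]
      rw [e5, e6, e8, conj_zeta_pow 2 (by norm_num), conj_zeta_pow 4 (by norm_num),
        conj_zeta_pow 1 (by norm_num), conj_zeta_pow 3 (by norm_num)] at hm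
      norm_num at hm
      have h7 : (25 : ℂ) = 10 * m := by
        linear_combination hm - 5 * zeta_sum
      have h8 : (25 : ℕ) = 10 * m := by exact_mod_cast h7
      omega
    · change ψ 1 + ψ (e1, 1) = 30
      rw [h1, hz]; norm_num
    · intro σ h2 h3
      change ψ (1, σ) + ψ (e1, σ) = -10
      rw [hinv _ (hne 1 h2) (hsq 1 h3), hinv _ (hne e1 h2) (hsq e1 h3)]; norm_num
    · intro σ h2 h3
      change ψ (1, σ) + ψ (e1, σ) = _
      obtain ⟨v1, v2⟩ := val_three hψ h2 h3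
      rw [v1, v2, hu]
    · intro σ h2 h3
      change ψ (1, σ) + ψ (e1, σ) = _
      have v1 : ψ (1, σ) = ψ (1, c5) := by
        rcases val_five hψ h2 h3 1 with h | h
        · exact h
        · rw [h, hgal]
      have v2 : ψ (e1, σ) = 0 := by
        rcases val_five hψ h2 h3 e1 with h | h
        · rw [h]; exact hw1
        · rw [h]; exact hw2
      rw [v1, v2, add_zero]
  · change ψ 1 + ψ (e1, 1) = 30
    rw [h1, hz]; norm_num
  · intro σ h2 h3
    change ψ (1, σ.1) + ψ (e1, σ.1) = -10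
    have h2' : σ.1 ≠ 1 := fun h => h2 (Subtype.ext h)
    have h3' : σ.1 * σ.1 = 1 := congrArg Subtype.val h3
    rw [hinv _ (hne 1 h2') (hsq 1 h3'), hinv _ (hne e1 h2') (hsq e1 h3')]; norm_num
  · intro σ h2 h3
    change ψ (1, σ.1) + ψ (e1, σ.1) = _
    have h2' : σ.1 * σ.1 ≠ 1 := fun h => h2 (Subtype.ext h)
    have h3' : σ.1 * σ.1 * σ.1 = 1 := congrArg Subtype.val h3
    obtain ⟨v1, v2⟩ := val_three hψ h2' h3'
    rw [v1, v2, hu]

end

end Cfsg.Agent.JC
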