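import Cfsg.Agent.JC.CA2
import Cfsg.Agent.H60.Gen3
import Cfsg.Prelude.Def_SporadicB

/-! Local structure of a simple group with involution centraliser `C2 × A5`. -/

set_option autoImplicit false

namespace Cfsg.Agent.JC

open Subgroup Cfsg.Agent.H60

/-- An embedding of `C2 × A5` as the centraliser of the image of the central involution. -/
structure Emb (G : Type*) [Group G] where
  iota : CA →* G
  inj : Function.Injective iota
  cent : ∀ g : G, g * iota zz = iota zz * g → ∃ y, iota y = g

section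

variable {G : Type*} [Group G]

theorem exists_emb (t : G) (ht : t ≠ 1)
    (e : centralizer ({t} : Set G) ≃* Multiplicative (ZMod 2) × alternatingGroup (Fin 5)) :
    ∃ E : Emb G, E.iota zz = t := by
  let iota : CA →* G := (centralizer ({t} : Set G)).subtype.comp e.symm.toMonoidHom
  have hinj : Function.Injective iota :=
    (Subgroup.subtype_injective _).comp e.symm.injective
  have hrange : ∀ g : G, g * t = t * g → ∃ y, iota y = g := by
    intro g hg
    refine ⟨e ⟨g, ?_⟩, ?_⟩
    · rw [mem_centralizer_singleton_iff]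
      exact hg
    · change ((e.symm (e ⟨g, _⟩) : centralizer ({t} : Set G)) : G) = g
      rw [MulEquiv.symm_apply_apply]
  have hcomm : ∀ y, iota y * t = t * iota y := by
    intro y
    have := (e.symm y).2
    rw [mem_centralizer_singleton_iff] at this
    exact this
  obtain ⟨y, hy⟩ := hrange t rfl
  have hyc : ∀ w : CA, y * w = w * y := by
    intro w
    apply hinj
    rw [map_mul, map_mul, hy]
    exact (hcomm w).symm
  have hyz : iota zz = t := by
    rcases center_CA y (hyc _) (hyc _) with h | h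
    · exfalso
      rw [h, map_one] at hy
      exact ht hy.symm
    · rw [← h, hy]
  exact ⟨⟨iota, hinj, by rw [hyz]; exact hrange⟩, hyz⟩

variable (E : Emb G)

theorem Emb.zz_sq' : E.iota zz * E.iota zz = 1 := by
  rw [← map_mul, zz_sq, map_one]

theorem Emb.zz_ne' : E.iota zz ≠ 1 := by
  intro h
  rw [← map_one E.iota] at h
  exact zz_ne (E.inj h)

theorem Emb.of_comm {y : CA} {k : ℕ} (hk : y ^ k = zz) {g : G}
    (h : g * E.iota y = E.iota y * g) : ∃ w, E.iota w = g ∧ w * y = y * w := by
  have h1 : g * E.iota zz = E.iota zz * g := by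
    rw [← hk, map_pow]
    exact (show Commute g (E.iota y) from h).pow_right k
  obtain ⟨w, hw⟩ := E.cent g h1
  refine ⟨w, hw, ?_⟩
  apply E.inj
  rw [map_mul, map_mul, hw, h]

theorem Emb.card_cent [Finite G] {y : CA} {k : ℕ} (hk : y ^ k = zz) :
    Nat.card (centralizer ({E.iota y} : Set G)) = Fintype.card {w : CA // w * y = y * w} := by
  have hb : Function.Bijective (fun w : {w : CA // w * y = y * w} =>
      (⟨E.iota w.1, by
        rw [mem_centralizer_singleton_iff, ← map_mul, ← map_mul, w.2]⟩ :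
        centralizer ({E.iota y} : Set G))) := by
    constructor
    · intro a b h
      exact Subtype.ext (E.inj (congrArg Subtype.val h))
    · rintro ⟨g, hg⟩
      rw [mem_centralizer_singleton_iff] at hg
      obtain ⟨w, hw, hw2⟩ := E.of_comm hk hg
      exact ⟨⟨w, hw2⟩, Subtype.ext hw⟩
  rw [← Nat.card_eq_of_bijective _ hb, Nat.card_eq_fintype_card]

theorem Emb.conj_iff {y1 y2 : CA} {k : ℕ} (h1 : y1 ^ k = zz) (h2 : y2 ^ k = zz)
    (h : IsConj (E.iota y1) (E.iota y2)) : ∃ w : CA, w * y1 * w⁻¹ = y2 := by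
  obtain ⟨g, hg⟩ := isConj_iff.mp h
  have h3 : g * E.iota zz * g⁻¹ = E.iota zz := by
    have h4 : g * (E.iota y1) ^ k * g⁻¹ = (E.iota y2) ^ k := by
      rw [← conj_pow, hg]
    rwa [← map_pow, ← map_pow, h1, h2] at h4
  obtain ⟨w, hw⟩ := E.cent g (by rwa [mul_inv_eq_iff_eq_mul] at h3)
  refine ⟨w, E.inj ?_⟩
  rw [map_mul, map_mul, map_inv, hw, hg]

theorem cent_zz_all : Fintype.card {w : CA // w * zz = zz * w} = 120 := by
  rw [← card_CA]
  exact Fintype.card_congr (Equiv.subtypeUnivEquiv zz_center)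

theorem Emb.card_cent_zz [Finite G] : Nat.card (centralizer ({E.iota zz} : Set G)) = 120 := by
  rw [E.card_cent (k := 1) (pow_one zz), cent_zz_all]

/-- The Sylow `2`-subgroup. -/
def Emb.S : Subgroup G := (E.iota.comp kap).range

theorem Emb.mem_S {g : G} : g ∈ E.S ↔ ∃ y : E8, E.iota (kap y) = g := Iff.rfl

theorem Emb.card_S : Nat.card E.S = 8 := by
  have hinj : Function.Injective (E.iota.comp kap) := E.inj.comp kap_inj
  have : Nat.card E.S = Nat.card E8 :=
    (Nat.card_congr (MonoidHom.ofInjective hinj).toEquiv).symm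
  rw [this, Nat.card_eq_fintype_card, card_E8]

theorem Emb.S_comm {a b : G} (ha : a ∈ E.S) (hb : b ∈ E.S) : a * b = b * a := by
  obtain ⟨x, rfl⟩ := ha
  obtain ⟨y, rfl⟩ := hb
  rw [← map_mul, ← map_mul, e8_comm]

theorem Emb.S_sq {a : G} (ha : a ∈ E.S) : a * a = 1 := by
  obtain ⟨x, rfl⟩ := ha
  rw [← map_mul, e8_sq, map_one]

theorem Emb.zz_mem_S : E.iota zz ∈ E.S := ⟨zE, by
  rw [MonoidHom.comp_apply, kap_zE]⟩

end

/-- The order of `G` is `8` times an odd number. -/
theorem card_mod16 {G : Type*} [Group G] [Finite G] (E : Emb G)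
    (ht : Cfsg.IsTwoCentralInvolution (E.iota zz)) : ¬ 16 ∣ Nat.card G := by
  obtain ⟨-, P, htP, hP⟩ := ht
  intro h16
  have h1 : (P : Subgroup G) ≤ centralizer ({E.iota zz} : Set G) := by
    intro x hx
    rw [mem_centralizer_singleton_iff]
    exact hP x hx
  have h2 : Nat.card P ∣ 120 := by
    rw [← E.card_cent_zz]
    exact Subgroup.card_dvd_of_le h1
  have : Fact (Nat.Prime 2) := ⟨Nat.prime_two⟩
  have h3 : 2 ^ 4 ∣ Nat.card P := by
    rw [P.card_eq_multiplicity]
    apply pow_dvd_pow
    exact (Nat.Prime.pow_dvd_iff_le_factorization Nat.prime_two Nat.card_pos.ne').mp h16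
  have h4 : 2 ^ 4 ∣ 120 := h3.trans h2
  exact absurd h4 (by norm_num)

theorem card_dvd120 {G : Type*} [Group G] [Finite G] (E : Emb G) : 120 ∣ Nat.card G := by
  rw [← E.card_cent_zz]
  exact Subgroup.card_subgroup_dvd_card _

theorem fact_of_mod16 {n : ℕ} (h0 : n ≠ 0) (h8 : 8 ∣ n) (h16 : ¬ 16 ∣ n) :
    n.factorization 2 = 3 := by
  apply le_antisymm
  · by_contra h
    push Not at h
    exact h16 ((Nat.Prime.pow_dvd_iff_le_factorization Nat.prime_two h0 (k := 4)).mpr h)
  · exact (Nat.Prime.pow_dvd_iff_le_factorization Nat.prime_two h0 (k := 3)).mp h8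

/-- `S` as a Sylow subgroup. -/
noncomputable def sylS {G : Type*} [Group G] [Finite G] (E : Emb G) (h16 : ¬ 16 ∣ Nat.card G) :
    Sylow 2 G :=
  haveI : Fact (Nat.Prime 2) := ⟨Nat.prime_two⟩
  Sylow.ofCard E.S (by
    rw [E.card_S, fact_of_mod16 Nat.card_pos.ne'
      ((show (8 : ℕ) ∣ 120 by norm_num).trans (card_dvd120 E)) h16]
    norm_num)

section fusion

variable {G : Type*} [Group G] [Finite G] (E : Emb G) (h16 : ¬ 16 ∣ Nat.card G)

theorem sylS_coe : (sylS E h16 : Subgroup G) = E.S := rfl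

include h16 in
/-- Burnside fusion in `S`. -/
theorem burnside {x g : G} (hx : x ∈ E.S) (hg : g⁻¹ * x * g ∈ E.S) :
    ∃ n ∈ normalizer (E.S : Set G), g⁻¹ * x * g = n⁻¹ * x * n := by
  have : Fact (Nat.Prime 2) := ⟨Nat.prime_two⟩
  have hc : IsMulCommutative (sylS E h16) :=
    ⟨⟨fun a b => Subtype.ext (E.S_comm a.2 b.2)⟩⟩
  exact (sylS E h16).conj_eq_normalizer_conj_of_mem x g hx hg

/-- The number of elements of `S` conjugate to `t` is odd. -/
theorem odd_class (h16 : ¬ 16 ∣ Nat.card G) :
    Odd (Nat.card {y : E8 // IsConj (E.iota zz) (E.iota (kap y))}) := by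
  classical
  set N := normalizer (E.S : Set G) with hN
  set t := E.iota zz with htdef
  let X := {y : E8 // IsConj t (E.iota (kap y))}
  -- the subgroup `C_N(t)` of `N`
  set D : Subgroup N := (centralizer ({t} : Set G)).subgroupOf N with hD
  have hconj : ∀ n : N, (n : G) * t * (n : G)⁻¹ ∈ E.S := by
    intro n
    exact (Subgroup.mem_normalizer_iff.mp n.2 t).mp E.zz_mem_S
  have hex : ∀ n : N, ∃ y : E8, E.iota (kap y) = n * t * (n : G)⁻¹ := fun n => hconj n
  choose f hf using hex
  let F : N → X := fun n => ⟨f n, by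
    rw [hf]
    exact isConj_iff.mpr ⟨n, rfl⟩⟩
  have hFD : ∀ n m : N, F n = F m ↔ n⁻¹ * m ∈ D := by
    intro n m
    have h1 : F n = F m ↔ (n : G) * t * (n : G)⁻¹ = m * t * (m : G)⁻¹ := by
      constructor
      · intro h
        have h2 : f n = f m := congrArg Subtype.val h
        rw [← hf n, ← hf m, h2]
      · intro h
        apply Subtype.ext
        apply kap_inj
        apply E.inj
        change E.iota (kap (f n)) = E.iota (kap (f m))
        rw [hf, hf, h]
    rw [h1]
    change _ ↔ ((n⁻¹ * m : N) : G) ∈ centralizer ({t} : Set G)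
    rw [mem_centralizer_singleton_iff]
    push_cast
    constructor
    · intro h
      have h3 : (n : G)⁻¹ * ((n : G) * t * (n : G)⁻¹) * m = (n : G)⁻¹ * (m * t * (m : G)⁻¹) * m := by
        rw [h]
      calc (n : G)⁻¹ * m * t = (n : G)⁻¹ * (m * t * (m : G)⁻¹) * m := by group
        _ = (n : G)⁻¹ * ((n : G) * t * (n : G)⁻¹) * m := h3.symm
        _ = t * ((n : G)⁻¹ * m) := by group
    · intro h
      calc (n : G) * t * (n : G)⁻¹ = (n : G) * (t * ((n : G)⁻¹ * m)) * (m : G)⁻¹ := by group
        _ = (n : G) * ((n : G)⁻¹ * m * t) * (m : G)⁻¹ := by rw [h]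
        _ = m * t * (m : G)⁻¹ := by group
  have hFs : Function.Surjective F := by
    rintro ⟨y, hy⟩
    obtain ⟨g, hg⟩ := isConj_iff.mp hy
    obtain ⟨n, hn, hn2⟩ := burnside E h16 (x := t) (g := g⁻¹) E.zz_mem_S
      (by rw [inv_inv, hg]; exact ⟨y, rfl⟩)
    refine ⟨⟨n⁻¹, inv_mem hn⟩, ?_⟩
    apply Subtype.ext
    apply kap_inj
    apply E.inj
    change E.iota (kap (f _)) = E.iota (kap y)
    rw [hf]
    change n⁻¹ * t * n⁻¹⁻¹ = _
    rw [inv_inv, ← hn2, inv_inv, hg]
  have hcard : Nat.card X = D.index := by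
    have hb : Function.Bijective (fun q : N ⧸ D => Quotient.liftOn' q F (fun a b h => by
        rw [QuotientGroup.leftRel_apply] at h
        exact (hFD a b).mpr h)) := by
      constructor
      · intro a b
        induction a using QuotientGroup.induction_on with
        | H a =>
          induction b using QuotientGroup.induction_on with
          | H b =>
            intro h
            exact QuotientGroup.eq.mpr ((hFD a b).mp h)
      · intro x
        obtain ⟨n, hn⟩ := hFs x
        exact ⟨(n : N ⧸ D), hn⟩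
    exact (Nat.card_eq_of_bijective _ hb).symm
  rw [show Nat.card {y : E8 // IsConj t (E.iota (kap y))} = Nat.card X from rfl, hcard]
  -- `S ≤ D`, so the index is odd
  have hSD : E.S.subgroupOf N ≤ D := by
    intro s hs
    change (s : G) ∈ centralizer ({t} : Set G)
    rw [mem_centralizer_singleton_iff]
    exact E.S_comm hs E.zz_mem_S
  have h1 : D.index ∣ (E.S.subgroupOf N).index := Subgroup.index_dvd_of_le hSD
  have h2 : (E.S.subgroupOf N).index ∣ E.S.index := by
    have : (E.S.subgroupOf N).index = E.S.relIndex N := rfl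
    rw [this]
    exact Subgroup.relIndex_dvd_index_of_le Subgroup.le_normalizer
  have h3 : ¬ 2 ∣ E.S.index := by
    intro h
    have h4 := Subgroup.card_mul_index E.S
    rw [E.card_S] at h4
    obtain ⟨k, hk⟩ := h
    apply h16
    rw [← h4, hk]
    exact ⟨k, by ring⟩
  rw [← Nat.not_even_iff_odd, even_iff_two_dvd]
  exact fun h => h3 (h.trans (h1.trans h2))

end fusion

end Cfsg.Agent.JC
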