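import Cfsg.Agent.JC.Excl
import Cfsg.Agent.JC.Comb3

/-! Constructing the combinatorial data from the group. -/

set_option autoImplicit false

namespace Cfsg.Agent.JC

open scoped ComplexConjugate
open Cfsg Subgroup

section

variable {G : Type*} [Group G] [Finite G] (E : Emb G)

theorem zz_pow7 : zz ^ 7 = zz := by decide +kernel
theorem u3_pow7 : u3 ^ 7 = u3 := by decide +kernel
theorem c5_pow7 : ((1, c5) : CA) ^ 7 = (1, c5 * c5) := by decide +kernel
theorem c5_pow5 : ((1, c5) : CA) ^ 5 = 1 := by decide +kernel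

theorem rs_galP {k : ℕ} (hk : k.Coprime (Nat.card G)) (χ : IrrCharacter G) {y : CA} {n : ℕ}
    (hn : y ^ n = 1) (h7 : k ≡ 7 [MOD n]) : rs E (galP hk χ) y = rs E χ (y ^ 7) := by
  unfold rs
  rw [galP_apply, ← map_pow, pow_eq_pow_of_modEq h7 hn]

theorem xv_galP {k : ℕ} (hk : k.Coprime (Nat.card G)) (h7 : k ≡ 7 [MOD 30]) (χ : IrrCharacter G) :
    rs E (galP hk χ) zz = rs E χ zz ∧ rs E (galP hk χ) u3 = rs E χ u3 ∧
    rs E (galP hk χ) w1 = rs E χ w2 ∧ rs E (galP hk χ) w2 = rs E χ w1 := by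
  refine ⟨?_, ?_, ?_, ?_⟩
  · rw [rs_galP E hk χ (show zz ^ 2 = 1 by rw [pow_two]; exact zz_sq)
      (h7.of_dvd (by norm_num)), zz_pow7]
  · rw [rs_galP E hk χ u3_pow6 (h7.of_dvd (by norm_num)), u3_pow7]
  · rw [rs_galP E hk χ w1_pow10 (h7.of_dvd (by norm_num)), w1_pow7]
  · rw [rs_galP E hk χ w2_pow10 (h7.of_dvd (by norm_num))]
    exact psi_conj (rs_isCharacter E χ) w2_pow7

/-- Values at the involutions of `C2 × A5`. -/
theorem rs_inv [IsSimpleGroup G] (h16 : ¬ 16 ∣ Nat.card G) (χ : IrrCharacter G) {y : CA}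
    (h1 : y ≠ 1) (h2 : y * y = 1) : rs E χ y = rs E χ zz := by
  unfold rs
  symm
  apply CharBase.classFun_eq_of_isConj (CharBase.isClassFunction_of_isCharacter
    (CharBase.isCharacter_of_isIrr χ.2))
  apply conj_inv E h16
  · rw [← map_mul, h2, map_one]
  · intro h
    apply h1
    apply E.inj
    rw [h, map_one]

theorem excl_main [IsSimpleGroup G] (h16 : ¬ 16 ∣ Nat.card G) {k : ℕ}
    (hk : k.Coprime (Nat.card G)) (h7 : k ≡ 7 [MOD 30]) (χ : IrrCharacter G)
    (hfix : galP hk χ = χ) (hdeg : (χ : G → ℂ) 1 = 35) (hz : rs E χ zz = -5)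
    (hu : rs E χ u3 = 1) (hw1 : rs E χ w1 = 0) (hw2 : rs E χ w2 = 0) : False := by
  apply excl_core (rs_isCharacter E χ) _ _ hu hw1 hw2
  · conv_lhs => rw [← hfix]
    rw [rs_galP E hk χ c5_pow5 (h7.of_dvd (by norm_num)), c5_pow7]
  · change (χ : G → ℂ) (E.iota 1) = 35
    rw [map_one, hdeg]
  · intro y h1 h2
    rw [rs_inv E h16 χ h1 h2, hz]

theorem cast_tau (a b c d : ℤ) : ((tauF a b c d : ℤ) : ℂ) = 3 * b - 2 * a + 5 * c + 4 * d := by
  unfold tauF
  push_cast
  ring

include E in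
/-- The data attached to `G`. -/
theorem exists_dat [IsSimpleGroup G] (h16 : ¬ 16 ∣ Nat.card G) [Fintype (IrrCharacter G)] :
    ∃ D : Dat (IrrCharacter G), D.N = Nat.card G := by
  obtain ⟨k, hk, h7⟩ := exists_exponent (Nat.card G) Nat.card_pos.ne'
  choose a b c d ha hb hc hd using fun χ : IrrCharacter G => ca_abcd (rs_isCharacter E χ)
  have htau : ∀ χ : IrrCharacter G,
      xv (rs E χ) 0 = ((tauF (a χ) (b χ) (c χ) (d χ) : ℤ) : ℂ) := by
    intro χ
    rw [cast_tau]
    exact ca_tau (ha χ) (hb χ) (hc χ) (hd χ)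
  have hzz : ∀ χ : IrrCharacter G,
      rs E χ zz = ((tauF (a χ) (b χ) (c χ) (d χ) : ℤ) : ℂ) := htau
  have hdeg : ∀ χ : IrrCharacter G, (χ : G → ℂ) 1 = ((H75.deg χ : ℤ) : ℂ) := by
    intro χ
    rw [H75.deg_spec]
    norm_cast
  have hone : ∀ y : CA, rs E (CharBase.oneIrr G) y = 1 := fun y => rfl
  have hs := ss_add
  have hm := ss_mul
  -- bilinear sums
  have hbil : ∀ (u v : IrrCharacter G → ℤ) (α β : Fin 4 → ℂ) (s : ℤ),
      (∀ χ, (u χ : ℂ) = ∑ i, α i * xv (rs E χ) i) →
      (∀ χ, (v χ : ℂ) = ∑ i, β i * xv (rs E χ) i) →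
      ∑ i, α i * β i * nn i = s → ∑ χ, u χ * v χ = s := by
    intro u v α β s hu hv h
    have h1 := bilin E α β
    rw [h] at h1
    have h2 : ((∑ χ, u χ * v χ : ℤ) : ℂ) = (s : ℂ) := by
      rw [← h1]
      push_cast
      exact Finset.sum_congr rfl fun χ _ => by rw [hu, hv]
    exact_mod_cast h2
  have hlin : ∀ (u : IrrCharacter G → ℤ) (α : Fin 4 → ℂ),
      (∀ χ, (u χ : ℂ) = ∑ i, α i * xv (rs E χ) i) → ∑ χ, u χ * (H75.deg χ : ℤ) = 0 := by
    intro u α hu
    have h1 := lin_deg E α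
    have h2 : ((∑ χ, u χ * (H75.deg χ : ℤ) : ℤ) : ℂ) = 0 := by
      rw [← h1]
      push_cast
      exact Finset.sum_congr rfl fun χ _ => by rw [hu, H75.deg_spec]; ring
    exact_mod_cast h2
  have hcnt : ∀ (u : IrrCharacter G → ℤ) (α : Fin 4 → ℂ) (s : ℚ),
      (∀ χ, (u χ : ℂ) = ∑ i, α i * xv (rs E χ) i) →
      (14400 : ℂ) * ∑ i, α i * ff i = s →
      (((Nat.card G : ℤ)) : ℚ) * ∑ χ, (u χ : ℚ) *
        ((tauF (a χ) (b χ) (c χ) (d χ) : ℤ) : ℚ) ^ 2 / ((H75.deg χ : ℤ) : ℚ) = s := by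
    intro u α s hu hs
    have h1 := lin_count E h16 α
    rw [hs] at h1
    apply Rat.cast_injective (α := ℂ)
    rw [← h1]
    push_cast
    congr 1
    refine Finset.sum_congr rfl fun χ _ => ?_
    rw [← hu, htau, H75.deg_spec]
    ring
  have hpow : ∀ u : IrrCharacter G → ℤ, ∑ χ, u χ ^ 2 = ∑ χ, u χ * u χ :=
    fun u => Finset.sum_congr rfl fun χ _ => pow_two _
  have hGne : (Nat.card G : ℚ) ≠ 0 := by exact_mod_cast (Nat.card_pos (α := G)).ne'
  -- the values at the trivial character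
  have hsum1 : ∀ (u : ℤ) (α : Fin 4 → ℂ) (s : ℤ),
      (u : ℂ) = ∑ i, α i * xv (rs E (CharBase.oneIrr G)) i → α 0 + α 1 + α 2 + α 3 = s →
      u = s := by
    intro u α s hu h
    rw [xv_sum, hone, hone, hone, hone] at hu
    have : (u : ℂ) = s := by rw [hu, ← h]; ring
    exact_mod_cast this
  have hres : ∀ χ : IrrCharacter G,
      (∃ m : ℕ, (H75.deg χ : ℤ) + 7 * tauF (a χ) (b χ) (c χ) (d χ) = 8 * m) ∧
      ∃ m : ℕ, (H75.deg χ : ℤ) - tauF (a χ) (b χ) (c χ) (d χ) = 8 * m := by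
    intro χ
    apply e8_char (CharBase.isCharacter_comp (rs_isCharacter E χ) kap)
    · change (χ : G → ℂ) (E.iota (kap 1)) = _
      rw [map_one, map_one, hdeg]
    · intro y hy
      rw [← hzz]
      apply rs_inv E h16
      · intro h
        apply hy
        apply kap_inj
        rw [h, map_one]
      · rw [← map_mul, e8_sq, map_one]
  have hstrict : ∀ χ : IrrCharacter G, χ ≠ CharBase.oneIrr G →
      (H75.deg χ : ℤ) ≠ tauF (a χ) (b χ) (c χ) (d χ) := by
    intro χ hne h
    apply hne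
    apply eq_one_of_ker χ E.zz_ne'
    rw [hdeg, h]
    exact hzz χ
  refine ⟨
    { o := CharBase.oneIrr G
      a := a
      b := b
      c := c
      d := d
      f := fun χ => (H75.deg χ : ℤ)
      N := (Nat.card G : ℤ)
      rho := galP hk
      rinj := galP_inj hk
      ro := galP_one hk
      arho := ?_
      brho := ?_
      crho := ?_
      drho := ?_
      frho := ?_
      ao := ?_
      bo := ?_
      co := ?_
      d_o := ?_
      fo := ?_
      aa := ?_
      bb := ?_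
      cc := ?_
      dd := ?_
      ab := ?_
      ac := ?_
      ad := ?_
      cd := ?_
      af := hlin a _ ha
      cf := hlin c _ hc
      df := hlin d _ hd
      na := ?_
      nc := ?_
      nd := ?_
      fpos := ?_
      fmod := ?_
      fge := ?_
      fge' := ?_
      fsq := ?_
      excl := ?_ }, rfl⟩
  · intro χ
    obtain ⟨g1, g2, g3, g4⟩ := xv_galP E hk h7 χ
    have h1 := ha (galP hk χ)
    have h2 := hb χ
    rw [xv_sum] at h1 h2
    rw [g1, g2, g3, g4] at h1
    simp only [cfA, cfB, Matrix.cons_val_zero, Matrix.cons_val_one, Matrix.cons_val] at h1 h2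
    have : ((a (galP hk χ) : ℤ) : ℂ) = (b χ : ℂ) := by linear_combination h1 - h2
    exact_mod_cast this
  · intro χ
    obtain ⟨g1, g2, g3, g4⟩ := xv_galP E hk h7 χ
    have h1 := hb (galP hk χ)
    have h2 := ha χ
    rw [xv_sum] at h1 h2
    rw [g1, g2, g3, g4] at h1
    simp only [cfA, cfB, Matrix.cons_val_zero, Matrix.cons_val_one, Matrix.cons_val] at h1 h2
    have : ((b (galP hk χ) : ℤ) : ℂ) = (a χ : ℂ) := by linear_combination h1 - h2
    exact_mod_cast this
  · intro χ
    obtain ⟨g1, g2, g3, g4⟩ := xv_galP E hk h7 χ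
    have h1 := hc (galP hk χ)
    have h2 := ha χ
    have h3 := hb χ
    have h4 := hc χ
    rw [xv_sum] at h1 h2 h3 h4
    rw [g1, g2, g3, g4] at h1
    simp only [cfA, cfB, cfC, Matrix.cons_val_zero, Matrix.cons_val_one, Matrix.cons_val]
      at h1 h2 h3 h4
    have : ((c (galP hk χ) : ℤ) : ℂ) = ((b χ - a χ + c χ : ℤ) : ℂ) := by
      push_cast
      linear_combination h1 + h2 - h3 - h4
    exact_mod_cast this
  · intro χ
    obtain ⟨g1, g2, g3, g4⟩ := xv_galP E hk h7 χ
    have h1 := hd (galP hk χ)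
    have h2 := hd χ
    rw [xv_sum] at h1 h2
    rw [g1, g2, g3, g4] at h1
    simp only [cfD, Matrix.cons_val_zero, Matrix.cons_val_one, Matrix.cons_val] at h1 h2
    have : ((d (galP hk χ) : ℤ) : ℂ) = (d χ : ℂ) := by linear_combination h1 - h2
    exact_mod_cast this
  · intro χ
    have h1 := galP_deg hk χ
    rw [hdeg, hdeg] at h1
    exact_mod_cast h1
  · refine hsum1 _ _ _ (ha _) ?_
    simp only [cfA, Matrix.cons_val_zero, Matrix.cons_val_one, Matrix.cons_val]
    push_cast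
    linear_combination (1 / 5 : ℂ) * hs
  · refine hsum1 _ _ _ (hb _) ?_
    simp only [cfB, Matrix.cons_val_zero, Matrix.cons_val_one, Matrix.cons_val]
    push_cast
    linear_combination (1 / 5 : ℂ) * hs
  · refine hsum1 _ _ _ (hc _) ?_
    simp only [cfC, Matrix.cons_val_zero, Matrix.cons_val_one, Matrix.cons_val]
    push_cast
    linear_combination (-1 / 5 : ℂ) * hs
  · refine hsum1 _ _ _ (hd _) ?_
    simp only [cfD, Matrix.cons_val_zero, Matrix.cons_val_one, Matrix.cons_val]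
    push_cast
    ring
  · have h1 := hdeg (CharBase.oneIrr G)
    rw [CharBase.oneIrr_apply] at h1
    exact_mod_cast h1.symm
  · rw [hpow]
    refine hbil a a cfA cfA 4 ha ha ?_
    rw [Fin.sum_univ_four]
    simp only [cfA, nn, Matrix.cons_val_zero, Matrix.cons_val_one, Matrix.cons_val]
    push_cast
    linear_combination (2 / 5 : ℂ) * (3 + ss + st) * hs - (4 / 5 : ℂ) * hm
  · rw [hpow]
    refine hbil b b cfB cfB 4 hb hb ?_
    rw [Fin.sum_univ_four]
    simp only [cfB, nn, Matrix.cons_val_zero, Matrix.cons_val_one, Matrix.cons_val]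
    push_cast
    linear_combination (2 / 5 : ℂ) * (3 + ss + st) * hs - (4 / 5 : ℂ) * hm
  · rw [hpow]
    refine hbil c c cfC cfC 4 hc hc ?_
    rw [Fin.sum_univ_four]
    simp only [cfC, nn, Matrix.cons_val_zero, Matrix.cons_val_one, Matrix.cons_val]
    push_cast
    linear_combination (2 / 5 : ℂ) * (ss + st - 1) * hs - (4 / 5 : ℂ) * hm
  · rw [hpow]
    refine hbil d d cfD cfD 2 hd hd ?_
    rw [Fin.sum_univ_four]
    simp only [cfD, nn, Matrix.cons_val_zero, Matrix.cons_val_one, Matrix.cons_val]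
    push_cast
    ring
  · refine hbil a b cfA cfB 2 ha hb ?_
    rw [Fin.sum_univ_four]
    simp only [cfA, cfB, nn, Matrix.cons_val_zero, Matrix.cons_val_one, Matrix.cons_val]
    push_cast
    linear_combination (8 / 5 : ℂ) * hs + (4 / 5 : ℂ) * hm
  · refine hbil a c cfA cfC 2 ha hc ?_
    rw [Fin.sum_univ_four]
    simp only [cfA, cfC, nn, Matrix.cons_val_zero, Matrix.cons_val_one, Matrix.cons_val]
    push_cast
    linear_combination (-4 / 5 : ℂ) * hs - (4 / 5 : ℂ) * hm
  · refine hbil a d cfA cfD 0 ha hd ?_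
    rw [Fin.sum_univ_four]
    simp only [cfA, cfD, nn, Matrix.cons_val_zero, Matrix.cons_val_one, Matrix.cons_val]
    push_cast
    linear_combination (-2 / 5 : ℂ) * hs
  · refine hbil c d cfC cfD 0 hc hd ?_
    rw [Fin.sum_univ_four]
    simp only [cfC, cfD, nn, Matrix.cons_val_zero, Matrix.cons_val_one, Matrix.cons_val]
    push_cast
    linear_combination (2 / 5 : ℂ) * hs
  · refine hcnt a cfA 144000 ha ?_
    rw [Fin.sum_univ_four]
    simp only [cfA, ff, Matrix.cons_val_zero, Matrix.cons_val_one, Matrix.cons_val]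
    push_cast
    linear_combination (28800 : ℂ) * hs
  · refine hcnt c cfC 57600 hc ?_
    rw [Fin.sum_univ_four]
    simp only [cfC, ff, Matrix.cons_val_zero, Matrix.cons_val_one, Matrix.cons_val]
    push_cast
    linear_combination (-28800 : ℂ) * hs
  · have h1 := hcnt d cfD 0 hd (by
      rw [Fin.sum_univ_four]
      simp only [cfD, ff, Matrix.cons_val_zero, Matrix.cons_val_one, Matrix.cons_val]
      push_cast
      ring)
    rw [Int.cast_natCast] at h1
    exact (mul_eq_zero.mp h1).resolve_left hGne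
  · intro χ
    exact_mod_cast H75.deg_pos χ
  · intro χ _
    obtain ⟨m, hm⟩ := (hres χ).2
    exact ⟨m, hm⟩
  · intro χ hne
    obtain ⟨m, hm⟩ := (hres χ).2
    have := hstrict χ hne
    change tauF (a χ) (b χ) (c χ) (d χ) + 8 ≤ (H75.deg χ : ℤ)
    omega
  · intro χ
    obtain ⟨m, hm⟩ := (hres χ).1
    omega
  · intro χ
    have h1 : H75.deg χ ^ 2 ≤ Nat.card G := by
      rw [← H75.sum_deg_sq]
      exact Finset.single_le_sum (f := fun χ : IrrCharacter G => H75.deg χ ^ 2)
        (fun _ _ => Nat.zero_le _) (Finset.mem_univ χ)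
    rw [pow_two] at h1
    exact_mod_cast h1
  · intro χ hfix hf h1 h2 h3 h4
    have e1 := ha χ
    have e2 := hb χ
    have e3 := hc χ
    have e4 := hd χ
    rw [xv_sum] at e1 e2 e3 e4
    rw [h1] at e1
    rw [h2] at e2
    rw [h3] at e3
    rw [h4] at e4
    simp only [cfA, cfB, cfC, cfD, Matrix.cons_val_zero, Matrix.cons_val_one, Matrix.cons_val]
      at e1 e2 e3 e4
    push_cast at e1 e2 e3 e4
    have hst : ss - st ≠ 0 := by
      intro h
      have h5 : (ss - st) ^ 2 = 5 := by linear_combination (ss + st - 1) * hs - 4 * hm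
      rw [h] at h5
      norm_num at h5
    have hw12 : rs E χ w1 = rs E χ w2 := by
      have : (ss - st) * (rs E χ w1 - rs E χ w2) = 0 := by linear_combination 5 * e2 - 5 * e1
      have := (mul_eq_zero.mp this).resolve_left hst
      linear_combination this
    have hw1 : rs E χ w1 = 0 := by
      rw [← hw12] at e1 e4
      linear_combination e4 - e1 - (1 / 5 : ℂ) * rs E χ w1 * hs
    have hw2 : rs E χ w2 = 0 := by rw [← hw12, hw1]
    have hz : rs E χ zz = -5 := by
      rw [hw1, hw2] at e3 e4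
      linear_combination (-5 : ℂ) * e3 - 5 * e4
    have hu : rs E χ u3 = 1 := by
      rw [hw1, hw2, hz] at e4
      linear_combination (-3 : ℂ) * e4
    refine excl_main E h16 hk h7 χ hfix ?_ hz hu hw1 hw2
    rw [hdeg]
    change (H75.deg χ : ℤ) = 35 at hf
    rw [hf]
    norm_num

include E in
/-- **Janko's order theorem.** -/
theorem card_eq [IsSimpleGroup G] (h16 : ¬ 16 ∣ Nat.card G) : Nat.card G = 175560 := by
  have := Fintype.ofFinite (IrrCharacter G)
  obtain ⟨D, hD⟩ := exists_dat E h16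
  have h1 := D.N_eq
  rw [hD] at h1
  exact_mod_cast h1

end

end Cfsg.Agent.JC
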