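import Mathlib.Tactic

/-! Grid searches, I: the first case. -/

set_option autoImplicit false

namespace Cfsg.Agent.JC

/-- Bounded conjunction. -/
def allR (n : ℕ) (p : ℕ → Bool) : Bool := Nat.rec true (fun k r => p k && r) n

theorem allR_spec {n : ℕ} {p : ℕ → Bool} (h : allR n p = true) : ∀ k < n, p k = true := by
  induction n with
  | zero => intro k hk; exact absurd hk (Nat.not_lt_zero k)
  | succ n ih =>
    have h2 : (p n && allR n p) = true := h
    rw [Bool.and_eq_true] at h2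
    intro k hk
    rcases Nat.lt_succ_iff_lt_or_eq.mp hk with h3 | rfl
    · exact ih h2.2 k h3
    · exact h2.1

/-- The list of candidates in the first case. -/
def cand : List (ℤ × ℤ) := [(-123, 93), (-99, 45), (-35, 21), (-27, 21), (-27, 37), (-27, 77),
  (21, 21), (21, 29), (77, 133), (93, -123), (45, -99), (21, -35), (21, -27), (37, -27),
  (77, -27), (29, 21), (133, 77)]

def chk1 (y z : ℤ) : Bool :=
  let X := y + z - 1
  let P := X * y * z
  let D := P + y * z - 9 * X * (y + z)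
  let M := 144000 * P
  if y < 21 ∧ -11 < y then true else if z < 21 ∧ -11 < z then true else
  if M % D = 0 then
    (let N := M / D
    if y * y ≤ N ∧ z * z ≤ N ∧ X * X ≤ N then decide ((y, z) ∈ cand) else true)
  else true

theorem chk1_all : allR 151 (fun i => allR 151 (fun j =>
    chk1 (8 * (i : ℤ) - 595) (8 * (j : ℤ) - 595))) = true := by
  decide +kernel

theorem chk1_cand {y z N : ℤ} (hy : y % 8 = 5) (hz : z % 8 = 5) (hy1 : 21 ≤ y ∨ y ≤ -11)
    (hz1 : 21 ≤ z ∨ z ≤ -11) (hy2 : -600 < y) (hy3 : y < 600) (hz2 : -600 < z) (hz3 : z < 600)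
    (hN : N * ((y + z - 1) * y * z + y * z - 9 * (y + z - 1) * (y + z)) =
      144000 * ((y + z - 1) * y * z))
    (h1 : y * y ≤ N) (h2 : z * z ≤ N) (h3 : (y + z - 1) * (y + z - 1) ≤ N) :
    (y, z) ∈ cand := by
  obtain ⟨i, hi⟩ : ∃ i : ℕ, y = 8 * i - 595 := ⟨((y + 595) / 8).toNat, by omega⟩
  obtain ⟨j, hj⟩ : ∃ j : ℕ, z = 8 * j - 595 := ⟨((z + 595) / 8).toNat, by omega⟩
  have h4 := allR_spec (allR_spec chk1_all i (by omega)) j (by omega)
  rw [← hi, ← hj] at h4
  unfold chk1 at h4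
  dsimp only at h4
  have hP : (y + z - 1) * y * z ≠ 0 := by
    refine mul_ne_zero (mul_ne_zero ?_ ?_) ?_ <;> omega
  have hD : (y + z - 1) * y * z + y * z - 9 * (y + z - 1) * (y + z) ≠ 0 := by
    intro h
    rw [h, mul_zero] at hN
    exact hP (by linarith)
  rw [if_neg (by omega), if_neg (by omega), ← hN, Int.mul_emod_left, if_pos rfl,
    Int.mul_ediv_cancel _ hD, if_pos ⟨h1, h2, h3⟩] at h4
  exact of_decide_eq_true h4

theorem div_ub {c m x : ℚ} (hc : 0 ≤ c) (hm : 0 < m) (hx : m ≤ x ∨ x < 0) : c / x ≤ c / m := by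
  rcases hx with h | h
  · exact div_le_div_of_nonneg_left hc hm h
  · exact (div_nonpos_of_nonneg_of_nonpos hc h.le).trans (div_nonneg hc hm.le)

theorem div_lb {c m x : ℚ} (hc : 0 ≤ c) (hm : 0 < m) (hx : 0 < x ∨ x ≤ -m) :
    -(c / m) ≤ c / x := by
  rcases hx with h | h
  · exact (neg_nonpos.mpr (div_nonneg hc hm.le)).trans (div_nonneg hc h.le)
  · have h1 := div_ub (x := -x) hc hm (Or.inl (by linarith))
    rw [div_neg] at h1
    linarith

end Cfsg.Agent.JC
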