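import Cfsg.Agent.JC.Num

/-! The first case. -/

set_option autoImplicit false

namespace Cfsg.Agent.JC

/-- The bound in the first case. -/
theorem bound1 {y z N : ℤ} (hy1 : 21 ≤ y ∨ y ≤ -11)
    (hz1 : 21 ≤ z ∨ z ≤ -11) (hX : 9 ≤ y + z - 1 ∨ y + z - 1 ≤ -7)
    (hN : (N : ℚ) * (1 + 1 / ((y + z - 1 : ℤ) : ℚ) - 9 / (y : ℚ) - 9 / (z : ℚ)) = 144000)
    (h2 : z * z ≤ N) : -600 < z ∧ z < 600 := by
  by_contra hcon
  have hz : 600 ≤ z ∨ z ≤ -600 := by omega
  have e1 : (9 : ℚ) / z ≤ 9 / 600 := by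
    apply div_ub (by norm_num) (by norm_num)
    rcases hz with h | h
    · left; exact_mod_cast h
    · right
      have : (z : ℚ) ≤ -600 := by exact_mod_cast h
      linarith
  have e2 : (9 : ℚ) / y ≤ 9 / 21 := by
    apply div_ub (by norm_num) (by norm_num)
    rcases hy1 with h | h
    · left; exact_mod_cast h
    · right
      have : (y : ℚ) ≤ -11 := by exact_mod_cast h
      linarith
  have e3 : -((1 : ℚ) / 7) ≤ 1 / ((y + z - 1 : ℤ) : ℚ) := by
    apply div_lb (by norm_num) (by norm_num)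
    rcases hX with h | h
    · left
      have : (9 : ℚ) ≤ ((y + z - 1 : ℤ) : ℚ) := by exact_mod_cast h
      linarith
    · right; exact_mod_cast h
  have hz2 : (360000 : ℤ) ≤ N := by
    rcases hz with h | h <;> nlinarith
  have hN2 : (360000 : ℚ) ≤ N := by exact_mod_cast hz2
  have e4 : (2 : ℚ) / 5 < 1 + 1 / ((y + z - 1 : ℤ) : ℚ) - 9 / (y : ℚ) - 9 / (z : ℚ) := by
    norm_num at e1 e2 e3 ⊢
    linarith
  have e5 : (41 : ℚ) / 100 < 1 + 1 / ((y + z - 1 : ℤ) : ℚ) - 9 / (y : ℚ) - 9 / (z : ℚ) := by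
    norm_num at e1 e2 e3 ⊢
    linarith
  nlinarith

/-- The first case. -/
theorem case1 {y z V W N : ℤ} (hy : y % 8 = 5) (hz : z % 8 = 5) (hy1 : 21 ≤ y ∨ y ≤ -11)
    (hz1 : 21 ≤ z ∨ z ≤ -11) (hX : 9 ≤ y + z - 1 ∨ y + z - 1 ≤ -7)
    (hV0 : V ≠ 0) (hW0 : W ≠ 0) (hVW : V + W = y + z)
    (hN : (N : ℚ) * (1 + 1 / ((y + z - 1 : ℤ) : ℚ) - 9 / (y : ℚ) - 9 / (z : ℚ)) = 144000)
    (hN' : (N : ℚ) * (- 9 / (y : ℚ) - 9 / (z : ℚ) + 25 / (V : ℚ) + 25 / (W : ℚ)) = 57600)
    (h1 : y * y ≤ N) (h2 : z * z ≤ N) (h3 : (y + z - 1) * (y + z - 1) ≤ N) :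
    N = 175560 ∨ (V = 21 ∧ W = -35) ∨ (V = -35 ∧ W = 21) := by
  obtain ⟨b3, b4⟩ := bound1 hy1 hz1 hX hN h2
  obtain ⟨b1, b2⟩ : -600 < y ∧ y < 600 := by
    apply bound1 (y := z) (z := y) (N := N) hz1 hy1 (by rwa [add_comm z y]) _ h1
    rw [add_comm z y, ← hN]; ring
  have hy0 : (y : ℚ) ≠ 0 := by exact_mod_cast (show y ≠ 0 by omega)
  have hz0 : (z : ℚ) ≠ 0 := by exact_mod_cast (show z ≠ 0 by omega)
  have hX0 : ((y + z - 1 : ℤ) : ℚ) ≠ 0 := by exact_mod_cast (show y + z - 1 ≠ 0 by omega)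
  have hVq : (V : ℚ) ≠ 0 := by exact_mod_cast hV0
  have hWq : (W : ℚ) ≠ 0 := by exact_mod_cast hW0
  have hNi : N * ((y + z - 1) * y * z + y * z - 9 * (y + z - 1) * (y + z)) =
      144000 * ((y + z - 1) * y * z) := by
    have : (N : ℚ) * (((y + z - 1 : ℤ) : ℚ) * y * z + y * z -
        9 * ((y + z - 1 : ℤ) : ℚ) * (y + z)) = 144000 * (((y + z - 1 : ℤ) : ℚ) * y * z) := by
      rw [← hN]
      field_simp
      ring
    exact_mod_cast this
  have hNi' : N * (-9 * (y + z) * (V * W) + 25 * (V + W) * (y * z)) = 57600 * (y * z * (V * W)) := by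
    have : (N : ℚ) * (-9 * (y + z) * (V * W) + 25 * (V + W) * (y * z)) =
        57600 * (y * z * (V * W)) := by
      rw [← hN']
      field_simp
      ring
    exact_mod_cast this
  have hc := chk1_cand hy hz hy1 hz1 b1 b2 b3 b4 hNi h1 h2 h3
  have hW : W = y + z - V := by linarith
  have hfin : ∀ y z : ℤ, (y, z) ∈ [((-123 : ℤ), (93 : ℤ)), (-99, 45), (-35, 21), (-27, 21),
      (-27, 37), (-27, 77), (21, 21), (21, 29), (77, 133)] →
      W = y + z - V →
      N * ((y + z - 1) * y * z + y * z - 9 * (y + z - 1) * (y + z)) =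
      144000 * ((y + z - 1) * y * z) →
      N * (-9 * (y + z) * (V * W) + 25 * (V + W) * (y * z)) = 57600 * (y * z * (V * W)) →
      N = 175560 ∨ (V = 21 ∧ W = -35) ∨ (V = -35 ∧ W = 21) := by
    intro y z hmem hW e1 e2
    simp only [List.mem_cons, Prod.mk.injEq, List.not_mem_nil, or_false] at hmem
    rcases hmem with ⟨rfl, rfl⟩ | ⟨rfl, rfl⟩ | ⟨rfl, rfl⟩ | ⟨rfl, rfl⟩ | ⟨rfl, rfl⟩ | ⟨rfl, rfl⟩ |
      ⟨rfl, rfl⟩ | ⟨rfl, rfl⟩ | ⟨rfl, rfl⟩
    · exfalso
      have hN1 : N = 152520 := by omega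
      rw [hN1] at e2
      have : V + W = -30 := by omega
      rw [this] at e2
      omega
    · exfalso
      have hN1 : N = 165000 := by omega
      rw [hN1] at e2
      have : V + W = -54 := by omega
      rw [this] at e2
      omega
    · have hN1 : N = 189000 := by omega
      rw [hN1] at e2
      have h5 : V + W = -14 := by omega
      rw [h5] at e2
      have h6 : V * W = -735 := by omega
      have h7 : (V - 21) * (V + 35) = 0 := by
        have : W = -14 - V := by omega
        rw [this] at h6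
        linarith
      right
      rcases mul_eq_zero.mp h7 with h8 | h8
      · left; omega
      · right; omega
    · exfalso
      have hN1 : N = 189000 := by omega
      rw [hN1] at e2
      have h5 : V + W = -6 := by omega
      rw [h5] at e2
      have h6 : V * W = -375 := by omega
      have h7 : (V + 3) * (V + 3) = 384 := by
        have : W = -6 - V := by omega
        rw [this] at h6
        linarith
      rcases le_or_gt (V + 3) (-20) with h8 | h8
      · nlinarith
      rcases le_or_gt 20 (V + 3) with h9 | h9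
      · nlinarith
      · nlinarith
    · exfalso
      have hN1 : N = 119880 := by omega
      rw [hN1] at e2
      have : V + W = 10 := by omega
      rw [this] at e2
      omega
    · exfalso
      have hN1 : N = 116424 := by omega
      rw [hN1] at e2
      have : V + W = 50 := by omega
      rw [this] at e2
      omega
    · exfalso
      have hN1 : N = 861000 := by omega
      rw [hN1] at e2
      have : V + W = 42 := by omega
      rw [this] at e2
      omega
    · exfalso
      have hN1 : N = 511560 := by omega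
      rw [hN1] at e2
      have : V + W = 50 := by omega
      rw [this] at e2
      omega
    · left
      omega
  have hsymm : (y, z) ∈ [((-123 : ℤ), (93 : ℤ)), (-99, 45), (-35, 21), (-27, 21),
      (-27, 37), (-27, 77), (21, 21), (21, 29), (77, 133)] ∨
      (z, y) ∈ [((-123 : ℤ), (93 : ℤ)), (-99, 45), (-35, 21), (-27, 21),
      (-27, 37), (-27, 77), (21, 21), (21, 29), (77, 133)] := by
    unfold cand at hc
    have hall : ∀ q ∈ [((-123 : ℤ), (93 : ℤ)), (-99, 45), (-35, 21), (-27, 21), (-27, 37),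
        (-27, 77), (21, 21), (21, 29), (77, 133), (93, -123), (45, -99), (21, -35), (21, -27),
        (37, -27), (77, -27), (29, 21), (133, 77)],
        q ∈ [((-123 : ℤ), (93 : ℤ)), (-99, 45), (-35, 21), (-27, 21),
        (-27, 37), (-27, 77), (21, 21), (21, 29), (77, 133)] ∨
        (q.2, q.1) ∈ [((-123 : ℤ), (93 : ℤ)), (-99, 45), (-35, 21), (-27, 21),
        (-27, 37), (-27, 77), (21, 21), (21, 29), (77, 133)] := by decide +kernel
    exact hall _ hc
  rcases hsymm with h | h
  · exact hfin y z h hW hNi hNi'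
  · refine hfin z y h (by linarith) ?_ ?_
    · rw [add_comm z y]; linear_combination hNi
    · rw [add_comm z y]; linear_combination hNi'

end Cfsg.Agent.JC
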