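import Cfsg.Agent.JC.Count
import Cfsg.Agent.H75.Tools
import Cfsg.Agent.Char.Galois
import Mathlib.NumberTheory.LSeries.PrimesInAP

/-! Restriction to the Sylow `2`-subgroup; kernels; a Galois exponent. -/

set_option autoImplicit false

namespace Cfsg.Agent.JC

open scoped ComplexConjugate
open Cfsg Subgroup

/-- A sign character of `E8`. -/
noncomputable def epsE : E8 →* ℂ :=
  (powHom 2 (-1 : ℂ) (by norm_num)).comp (MonoidHom.fst M2 (M2 × M2))

theorem epsE_apply (y : E8) : epsE y = (-1 : ℂ) ^ (Multiplicative.toAdd y.1).val := rfl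

theorem conj_epsE (y : E8) : conj (epsE y) = epsE y := by
  rw [epsE_apply, map_pow, map_neg, map_one]

theorem sum_epsE : ∑ y : E8, epsE y = 0 := by
  rw [Fintype.sum_prod_type]
  have h1 : ∀ x : M2, ∑ y : M2 × M2, epsE (x, y) =
      (fun k : ℕ => (4 : ℂ) * (-1) ^ k) (Multiplicative.toAdd x).val := by
    intro x
    simp only [epsE_apply, Finset.sum_const, Finset.card_univ]
    have : Fintype.card (M2 × M2) = 4 := by decide +kernel
    rw [this, nsmul_eq_mul]
    norm_num
  rw [Finset.sum_congr rfl fun x _ => h1 x]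
  rw [sum_cyc (n := 2) (fun k : ℕ => (4 : ℂ) * (-1) ^ k)]
  simp [Finset.sum_range_succ]

theorem sum_conj_const {F : E8 → ℂ} {τ : ℂ} (h2 : ∀ y, y ≠ 1 → F y = τ) (θ : E8 → ℂ) :
    ∑ y, F y * θ y = (F 1 - τ) * θ 1 + τ * ∑ y, θ y := by
  classical
  have h3 : ∀ y, F y * θ y = τ * θ y + (if y = 1 then (F 1 - τ) * θ 1 else 0) := by
    intro y
    by_cases hy : y = 1
    · rw [if_pos hy, hy]; ring
    · rw [if_neg hy, h2 y hy, add_zero]
  rw [Finset.sum_congr rfl fun y _ => h3 y, Finset.sum_add_distrib, Finset.sum_ite_eq',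
    if_pos (Finset.mem_univ _), ← Finset.mul_sum]
  ring

theorem e8_char {ψ : E8 → ℂ} (hψ : IsCharacter E8 ψ) {n τ : ℤ} (h1 : ψ 1 = n)
    (h2 : ∀ y, y ≠ 1 → ψ y = τ) :
    (∃ m : ℕ, n + 7 * τ = 8 * m) ∧ ∃ m : ℕ, n - τ = 8 * m := by
  have hc : (Nat.card E8 : ℂ) = 8 := by
    rw [Nat.card_eq_fintype_card, card_E8]; norm_num
  constructor
  · obtain ⟨m, hm⟩ := CharBase.classInner_natCast hψ (Char.isCharacter_one (G := E8))
    refine ⟨m, ?_⟩
    unfold classInner at hm
    rw [hc] at hm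
    simp only [map_one] at hm
    rw [sum_conj_const h2 (fun _ => 1), h1, Finset.sum_const, Finset.card_univ, card_E8] at hm
    rw [inv_mul_eq_iff_eq_mul₀ (by norm_num)] at hm
    have h3 : ((n + 7 * τ : ℤ) : ℂ) = ((8 * m : ℤ) : ℂ) := by
      push_cast
      rw [← hm, nsmul_eq_mul]
      push_cast
      ring
    exact_mod_cast h3
  · obtain ⟨m, hm⟩ := CharBase.classInner_natCast hψ (Char.isCharacter_of_hom epsE)
    refine ⟨m, ?_⟩
    unfold classInner at hm
    rw [hc] at hm
    simp only [conj_epsE] at hm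
    rw [sum_conj_const h2 (fun y => epsE y), h1, sum_epsE, map_one] at hm
    rw [inv_mul_eq_iff_eq_mul₀ (by norm_num)] at hm
    have h3 : ((n - τ : ℤ) : ℂ) = ((8 * m : ℤ) : ℂ) := by
      push_cast
      rw [← hm]
      ring
    exact_mod_cast h3

section

variable {G : Type*} [Group G] [Finite G]

/-- A nontrivial irreducible character of a simple group is faithful. -/
theorem eq_one_of_ker [IsSimpleGroup G] (χ : IrrCharacter G) {g : G} (hg : g ≠ 1)
    (h : (χ : G → ℂ) g = (χ : G → ℂ) 1) : χ = CharBase.oneIrr G := by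
  classical
  have := Fintype.ofFinite G
  have hχ := CharBase.isCharacter_of_isIrr χ.2
  have hN := H75.charKer_normal hχ
  rcases hN.eq_bot_or_eq_top with h1 | h1
  · exfalso
    apply hg
    have : g ∈ H75.charKer hχ := h
    rwa [h1, mem_bot] at this
  · by_contra hne
    have h2 := CharBase.classInner_irr_of_ne hne
    have h3 : (χ : G → ℂ) = (χ : G → ℂ) 1 • (CharBase.oneIrr G : G → ℂ) := by
      funext x
      have : x ∈ H75.charKer hχ := by rw [h1]; exact mem_top x
      rw [Pi.smul_apply, CharBase.oneIrr_apply, smul_eq_mul, mul_one]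
      exact this
    rw [h3, CharBase.classInner_smul_left, CharBase.classInner_irr_self, mul_one] at h2
    exact CharBase.irr_one_ne_zero χ.2 h2

/-- An exponent for the Galois action. -/
theorem exists_exponent (N : ℕ) (hN : N ≠ 0) : ∃ k : ℕ, k.Coprime N ∧ k ≡ 7 [MOD 30] := by
  obtain ⟨p, hp1, hp2, hp3⟩ := Nat.forall_exists_prime_gt_and_modEq N (q := 30) (a := 7)
    (by norm_num) (by norm_num)
  refine ⟨p, ?_, hp3⟩
  rw [hp2.coprime_iff_not_dvd]
  intro h
  exact absurd (Nat.le_of_dvd (Nat.pos_of_ne_zero hN) h) (not_le.mpr hp1)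

/-- The Galois permutation. -/
noncomputable def galP {k : ℕ} (hk : k.Coprime (Nat.card G)) (χ : IrrCharacter G) : IrrCharacter G :=
  ⟨fun g => (χ : G → ℂ) (g ^ k), Char.isIrrCharacter_pow χ.2 hk⟩

theorem galP_apply {k : ℕ} (hk : k.Coprime (Nat.card G)) (χ : IrrCharacter G) (g : G) :
    (galP hk χ : G → ℂ) g = (χ : G → ℂ) (g ^ k) := rfl

theorem galP_inj {k : ℕ} (hk : k.Coprime (Nat.card G)) : Function.Injective (galP (G := G) hk) := by
  intro χ χ' h
  apply Subtype.ext
  funext x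
  obtain ⟨y, hy⟩ := (powCoprime hk.symm).surjective x
  have h1 : (galP hk χ : G → ℂ) y = (galP hk χ' : G → ℂ) y := by rw [h]
  have h2 : y ^ k = x := hy
  have h3 : (χ : G → ℂ) (y ^ k) = (χ' : G → ℂ) (y ^ k) := h1
  rwa [h2] at h3

theorem galP_one {k : ℕ} (hk : k.Coprime (Nat.card G)) :
    galP hk (CharBase.oneIrr G) = CharBase.oneIrr G := rfl

theorem galP_deg {k : ℕ} (hk : k.Coprime (Nat.card G)) (χ : IrrCharacter G) :
    (galP hk χ : G → ℂ) 1 = (χ : G → ℂ) 1 := by
  rw [galP_apply, one_pow]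

end

end Cfsg.Agent.JC
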